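import Cfsg.Agent.Lib.UnitGen.Basic

/-!
A subgroup with a full Eichler root group at one point which moves that point off its hyperplane
contains all Eichler transformations.
-/

set_option autoImplicit false

namespace Cfsg.Agent.Lib.UnitRegGen

open Cfsg.Agent.Lib.Classical Cfsg.Agent.Lib.UnitGen

variable {F : Type*} [Field F] {σ : F →+* F} {V : Type*} [AddCommGroup V] [Module F V] {B : V → V → F}

/-- All Eichler transformations at `u` lie in `L`. -/
def EichAll (h : HermSpace σ B) (L : Subgroup (V ≃ₗ[F] V)) (u : V) : Prop :=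
  ∀ (w : V) (c : F), B w u = 0 → c + σ c + B w w = 0 → ue h u w c ∈ L

/-- The vectors of the Eichler transformations at `u` in `L`. -/
def WSet (h : HermSpace σ B) (L : Subgroup (V ≃ₗ[F] V)) (u : V) : Set V :=
  {w | B w u = 0 ∧ ∃ c, c + σ c + B w w = 0 ∧ ue h u w c ∈ L}

variable {h : HermSpace σ B} {L : Subgroup (V ≃ₗ[F] V)}

theorem form_ne_swap (h : HermSpace σ B) {x y : V} (hne : B x y ≠ 0) : B y x ≠ 0 := by
  rw [← h.symm]; exact (map_ne_zero σ).2 hne

theorem WSet.zero {u : V} : (0 : V) ∈ WSet h L u :=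
  ⟨h.zero_left u, 0, fill_zero (by simp) h, by rw [ue_zero]; exact L.one_mem⟩

theorem WSet.add {u v w : V} (hu : B u u = 0) (hv : v ∈ WSet h L u) (hw : w ∈ WSet h L u) :
    v + w ∈ WSet h L u := by
  obtain ⟨hvu, c, hc, hm⟩ := hv
  obtain ⟨hwu, c', hc', hm'⟩ := hw
  refine ⟨by rw [h.add_left, hvu, hwu, add_zero], _, fill_mul hc hc' h, ?_⟩
  rw [← ue_mul hu hvu hwu hc hc']
  exact L.mul_mem hm hm'

theorem WSet.neg {u v : V} (hu : B u u = 0) (hv : v ∈ WSet h L u) : -v ∈ WSet h L u := by
  obtain ⟨hvu, c, hc, hm⟩ := hv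
  refine ⟨by rw [h.neg_left, hvu, neg_zero], σ c, ?_, ?_⟩
  · rw [h.invol, h.neg_left, h.neg_right, neg_neg, add_comm (σ c) c]; exact hc
  · rw [← ue_inv hu hvu hc]; exact L.inv_mem hm

theorem WSet.sub {u v w : V} (hu : B u u = 0) (hv : v ∈ WSet h L u) (hw : w ∈ WSet h L u) :
    v - w ∈ WSet h L u := by
  rw [sub_eq_add_neg]; exact WSet.add hu hv (WSet.neg hu hw)

theorem WSet.map {u w : V} {g : V ≃ₗ[F] V} {μ : F} (hL : L ≤ biIsoGroup B) (hu : B u u = 0) (hg : g ∈ L)
    (hgu : g u = μ • u) (hw : w ∈ WSet h L u) : σ μ • g w ∈ WSet h L u := by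
  obtain ⟨hwu, c, hc, hm⟩ := hw
  have hμ : B (g w) (g u) = 0 := by rw [hL hg, hwu]
  have hgw : B (g w) u = 0 ∨ μ = 0 := by
    rw [hgu, h.smul_right] at hμ
    rcases mul_eq_zero.1 hμ with e | e
    · exact Or.inr ((map_eq_zero σ).1 e)
    · exact Or.inl e
  rcases hgw with hgw | rfl
  · have hcg : c + σ c + B (g w) (g w) = 0 := by rw [hL hg]; exact hc
    refine ⟨by rw [h.smul_left, hgw, mul_zero], μ * σ μ * c, ?_, ?_⟩
    · rw [map_mul, map_mul, h.invol, h.smul_left, h.smul_right, h.invol]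
      linear_combination (μ * σ μ) * hcg
    · rw [← ue_smul_left hu hgw hcg, ← hgu, ← ue_conj (hL hg)]
      exact L.mul_mem (L.mul_mem hg hm) (L.inv_mem hg)
  · rw [map_zero, zero_smul]; exact WSet.zero

theorem WSet.smul_self {u : V} (hu : B u u = 0) (hlong : Long h L u) (a : F) : a • u ∈ WSet h L u := by
  refine ⟨by rw [h.smul_left, hu, mul_zero], 0, fill_sing hu h a, ?_⟩
  have e : ue h u (a • u) 0 = ue h u 0 (a - σ a) := by
    refine LinearEquiv.ext fun x => ?_
    rw [ue_apply hu (by rw [h.smul_left, hu, mul_zero]) (fill_sing hu h a),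
      ue_apply hu (h.zero_left u) (fill_zero (by rw [map_sub, h.invol]; ring) h), h.smul_right, h.zero_right]
    module
  rw [e]
  exact hlong _ (by rw [map_sub, h.invol]; ring)

theorem eichAll_of_wset {u : V} (hu : B u u = 0) (hlong : Long h L u) (hW : ∀ w, B w u = 0 → w ∈ WSet h L u) :
    EichAll h L u := fun w c hwu hc => by
  obtain ⟨-, c₀, hc₀, hm⟩ := hW w hwu
  have hd : (c - c₀) + σ (c - c₀) = 0 := by rw [map_sub]; linear_combination hc - hc₀
  have := L.mul_mem hm (hlong _ hd)
  rwa [ue_mul hu hwu (h.zero_left u) hc₀ (fill_zero hd h), add_zero, h.zero_left, sub_zero,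
    add_sub_cancel] at this

theorem EichAll.long {u : V} (hE : EichAll h L u) : Long h L u := fun d hd =>
  hE 0 d (h.zero_left u) (fill_zero hd h)

theorem EichAll.smul {u : V} (hu : B u u = 0) (hE : EichAll h L u) {a : F} (ha : a ≠ 0) :
    EichAll h L (a • u) := fun w c hwu hc => by
  have hwu' : B w u = 0 := by
    rw [h.smul_right] at hwu
    exact (mul_eq_zero.1 hwu).resolve_left ((map_ne_zero σ).2 ha)
  rw [ue_smul_left hu hwu' hc]
  refine hE _ _ (by rw [h.smul_left, hwu', mul_zero]) ?_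
  rw [map_mul, map_mul, h.invol, h.smul_left, h.smul_right, h.invol]
  linear_combination (a * σ a) * hc

theorem EichAll.map {u : V} (hL : L ≤ biIsoGroup B) (hE : EichAll h L u) {g : V ≃ₗ[F] V} (hg : g ∈ L) :
    EichAll h L (g u) := fun w c hwu hc => by
  obtain ⟨w', rfl⟩ := g.surjective w
  rw [hL hg] at hwu hc
  rw [← ue_conj (hL hg)]
  exact L.mul_mem (L.mul_mem hg (hE w' c hwu hc)) (L.inv_mem hg)

theorem EichAll.move {a b x : V} (hL : L ≤ biIsoGroup B) (hE : EichAll h L a) (hb : EichAll h L b)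
    (haa : B a a = 0) (hbb : B b b = 0) (hba : B b a ≠ 0) (hxx : B x x = 0) (hxa : B x a ≠ 0) :
    EichAll h L x := by
  set β := B b a with hβ
  set t := β / B x a with ht
  have ht0 : t ≠ 0 := div_ne_zero hba hxa
  have htxa : B (t • x) a = β := by rw [h.smul_left, ht, div_mul_cancel₀ _ hxa]
  set w := β⁻¹ • (t • x - b) with hw
  have hwa : B w a = 0 := by rw [hw, h.smul_left, h.sub_left, htxa, sub_self, mul_zero]
  have hbw : β • w = t • x - b := by rw [hw, smul_inv_smul₀ hba]
  set c := B b w / β with hcdef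
  have hcβ : c * β = B b w := div_mul_cancel₀ _ hba
  have key : B (β • w) (β • w) + σ β * B b w + σ (σ β * B b w) = 0 := by
    have e1 : B b (β • w) = σ β * B b w := h.smul_right _ _ _
    rw [← e1, h.symm]
    have e2 : B (t • x) (t • x) = 0 := by rw [h.smul_left, h.smul_right, hxx, mul_zero, mul_zero]
    rw [show t • x = b + β • w by rw [hbw]; abel] at e2
    simp only [h.add_left, h.add_right, hbb] at e2
    linear_combination e2
  have hc : c + σ c + B w w = 0 := by
    have hσβ : σ β ≠ 0 := (map_ne_zero σ).2 hba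
    have : β * σ β * (c + σ c + B w w) = 0 := by
      rw [h.smul_left, h.smul_right, map_mul, h.invol, ← hcβ, map_mul] at key
      linear_combination key
    exact (mul_eq_zero.1 this).resolve_left (mul_ne_zero hba hσβ)
  have hk : ue h a w c b = t • x := by
    rw [ue_apply haa hwa hc, ← hβ, hcβ, sub_self, zero_smul, add_zero, hbw, add_sub_cancel]
  have h2 := (hb.map hL (hE w c hwa hc)).smul (by rw [hk, h.smul_left, h.smul_right, hxx, mul_zero, mul_zero])
    (inv_ne_zero ht0)
  rwa [hk, inv_smul_smul₀ ht0] at h2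

/-- The final step. -/
theorem uGroup_le_of_eichAll {e : V} (hL : L ≤ biIsoGroup B) (hee : B e e = 0) (hE : EichAll h L e)
    {g : V ≃ₗ[F] V} (hg : g ∈ L) (hge : B (g e) e ≠ 0) : uGroup h ≤ L := by
  set f := g e with hfdef
  have hff : B f f = 0 := by rw [hfdef, hL hg, hee]
  have hEf : EichAll h L f := hE.map hL hg
  have hef : B e f ≠ 0 := form_ne_swap h hge
  have hall : ∀ x : V, x ≠ 0 → B x x = 0 → EichAll h L x := by
    intro x hx hxx
    by_cases h1 : B x e = 0
    swap
    · exact hE.move hL hEf hee hff hge hxx h1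
    by_cases h2 : B x f = 0
    swap
    · exact hEf.move hL hE hff hee hef hxx h2
    obtain ⟨z0, hz0⟩ : ∃ z0, B z0 x ≠ 0 := by
      by_contra! hne
      exact hx (h.nondeg x fun z => by rw [← h.symm, hne, map_zero])
    set z := z0 - (B z0 e / B f e) • f with hz
    have hze : B z e = 0 := by rw [hz, h.sub_left, h.smul_left, div_mul_cancel₀ _ hge, sub_self]
    have hfx : B f x = 0 := by rw [← h.symm, h2, map_zero]
    have hex : B e x = 0 := by rw [← h.symm, h1, map_zero]
    have hzx : B z x ≠ 0 := by rw [hz, h.sub_left, h.smul_left, hfx, mul_zero, sub_zero]; exact hz0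
    obtain ⟨c, hc⟩ := h.exists_fill z
    have hk := hE z c hze hc
    set r := ue h e z c f with hr
    have hEr : EichAll h L r := hEf.map hL hk
    have hrr : B r r = 0 := by rw [hr, hL hk, hff]
    have hre : B e r ≠ 0 := by
      have : ue h e z c e = e := ue_fix c hee (by rw [← h.symm, hze, map_zero])
      rw [← this, hr, hL hk]
      exact hef
    have hxr : B x r ≠ 0 := by
      refine form_ne_swap h ?_
      rw [hr, ue_apply hee hze hc, h.add_left, h.add_left, h.smul_left, h.smul_left, hfx, hex, mul_zero, zero_add,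
        add_zero]
      exact mul_ne_zero hge hzx
    exact hEr.move hL hE hrr hee hre hxx hxr
  rw [uGroup, Subgroup.closure_le]
  rintro _ ⟨u, w, c, hu, hwu, hc, rfl⟩
  by_cases hu0 : u = 0
  · have hone : uEich h u w c hu hwu hc = 1 :=
      LinearEquiv.ext fun x => by subst hu0; rw [uEich_apply, h.zero_right]; simp
    rw [hone]; exact L.one_mem
  · rw [← ue_eq hu hwu hc]
    exact hall u hu0 hu w c hwu hc

end Cfsg.Agent.Lib.UnitRegGen
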