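import Cfsg.Agent.Lib.UnitRegGen.Three

/-!
The fields with `25` and `64` elements.
-/

set_option autoImplicit false

namespace Cfsg.Agent.Lib.UnitRegGen

open Cfsg.Agent.Lib.Classical Cfsg.Agent.Lib.UnitGen

variable {F : Type*} [Field F] {σ : F →+* F} {V : Type*} [AddCommGroup V] [Module F V] {B : V → V → F}

theorem mulGen_of_large_order [Finite F] {q : ℕ} (hcard : Nat.card F = q ^ 2) {δ : F}
    (hδ : ∀ j, 0 < j → j ≤ q - 1 → δ ^ j ≠ 1) (hδ0 : δ ≠ 0) : MulGen δ := fun R h1 hR => by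
  refine eq_top_iff.2 fun t _ => mem_of_large_order hcard one_ne_zero hδ hδ0 R (fun k => ?_) t
  induction k with
  | zero => simpa using h1
  | succ k ih => rw [pow_succ', mul_assoc]; exact hR _ ih

variable {h : HermSpace σ B} {e f : ℕ → V} {w0 : V}
variable (hF : FullFrame B 1 e f w0) (hw : B w0 w0 = 1)
include h hF hw

/-- The vector with given coordinates. -/
def vec3 (_hF : FullFrame B 1 e f w0) (x : F × F × F) : V := x.1 • e 0 + x.2.1 • w0 + x.2.2 • f 0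

theorem ue_e_vec {t y : F} (hy : y + σ y + t * σ t = 0) (x : F × F × F) :
    ue h (e 0) (t • w0) y (vec3 hF x) =
      vec3 hF (x.1 + y * x.2.2 - σ t * x.2.1, x.2.1 + t * x.2.2, x.2.2) := by
  have hy' : y + σ y + B (t • w0) (t • w0) = 0 := by
    rw [h.smul_left, h.smul_right, hw, mul_one]; exact hy
  rw [ue_apply (hF.ee 0 0) (by rw [h.smul_left, hF.w0e, mul_zero]) hy', h.smul_right]
  simp only [vec3, h.add_left, h.smul_left, hF.ee, hF.w0e, hF.fe 0 one_pos, hF.ew0, hw, hF.fw0]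
  module

theorem ue_f_vec {t y : F} (hy : y + σ y + t * σ t = 0) (x : F × F × F) :
    ue h (f 0) (t • w0) y (vec3 hF x) =
      vec3 hF (x.1, x.2.1 + t * x.1, x.2.2 + y * x.1 - σ t * x.2.1) := by
  have hy' : y + σ y + B (t • w0) (t • w0) = 0 := by
    rw [h.smul_left, h.smul_right, hw, mul_one]; exact hy
  rw [ue_apply (hF.ff 0 0) (by rw [h.smul_left, hF.w0f, mul_zero]) hy', h.smul_right]
  simp only [vec3, h.add_left, h.smul_left, hF.ff, hF.w0f, hF.ef 0 one_pos, hF.ew0, hw, hF.fw0]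
  module

theorem conj_short {c c' s : F} (hc : c + σ c = -1) (hc' : c' ≠ 0) (hs : c' + σ c' + s * σ s = 0) :
    ∃ k ∈ uGroup h, k * ue h (e 0) w0 c * k⁻¹ =
      ue h (f 0) ((-(σ c' / c' ^ 2)) • w0) (c / (c' * σ c')) := by
  obtain ⟨k, hk, hke, -, hkw⟩ := exists_swap hF hw (h := h) hc' hs
  have hσ : σ c' ≠ 0 := (map_ne_zero σ).2 hc'
  have hfill : c + σ c + B ((-(σ c' / c')) • w0) ((-(σ c' / c')) • w0) = 0 := by
    rw [h.smul_left, h.smul_right, hw, map_neg, map_div₀, h.invol]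
    field_simp
    linear_combination hc
  refine ⟨k, hk, ?_⟩
  rw [ue_conj (uGroup_le h hk), hke, hkw, ue_smul_left (hF.ff 0 0) (by rw [h.smul_left, hF.w0f, mul_zero]) hfill,
    map_inv₀, h.invol, smul_smul]
  congr 1
  · congr 1; field_simp
  · field_simp

theorem exists_two_five [Finite F] (hcard : Nat.card F = 5 ^ 2) (h5 : (5 : F) = 0) {r : F} (hr : r ^ 2 = 3)
    (hσr : σ r = -r) :
    ∃ c : F, c + σ c = -1 ∧ ∃ k ∈ uGroup h, ∀ L : Subgroup (V ≃ₗ[F] V), L ≤ biIsoGroup B → ue h (e 0) w0 c ∈ L →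
      k * ue h (e 0) w0 c * k⁻¹ ∈ L → uGroup h ≤ L := by
  have h3 : (3 : F) ≠ 0 := fun h3 => one_ne_zero (α := F) (by linear_combination 2 * h3 - h5)
  have hr0 : r ≠ 0 := fun h0 => h3 (by rw [← hr, h0]; ring)
  have hc : (2 + 2 * r : F) + σ (2 + 2 * r) = -1 := by
    rw [map_add, map_mul, map_ofNat, hσr]; linear_combination h5
  obtain ⟨k, hk, hkv⟩ := conj_short hF hw (h := h) hc hr0 (s := 0) (by rw [hσr]; simp)
  refine ⟨2 + 2 * r, hc, k, hk, fun L hL hu hv => ?_⟩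
  rw [hkv, hσr, show -(-r / r ^ 2) = 2 * r by field_simp; linear_combination (-2) * hr - h5,
    show (2 + 2 * r) / (r * -r) = 1 + r by field_simp; linear_combination (-(1 + r)) * hr - (1 + r) * h5] at hv
  have fv : (1 + r) + σ (1 + r) + (2 * r) * σ (2 * r) = 0 := by
    rw [map_add, map_mul, map_ofNat, map_one, hσr]; linear_combination (-4) * hr - 2 * h5
  have fv' : B ((2 * r) • w0) (f 0) = 0 := by rw [h.smul_left, hF.w0f, mul_zero]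
  have fvb : (1 + r) + σ (1 + r) + B ((2 * r) • w0) ((2 * r) • w0) = 0 := by
    rw [h.smul_left, h.smul_right, hw, mul_one]; exact fv
  have hV := L.inv_mem hv
  rw [ue_inv (hF.ff 0 0) fv' fvb, ← neg_smul] at hV
  have hU := L.inv_mem hu
  rw [ue_inv (hF.ee 0 0) (hF.w0e 0) (by rw [hw]; linear_combination hc), ← neg_one_smul F w0] at hU
  have fV : σ (1 + r) + σ (σ (1 + r)) + (-(2 * r)) * σ (-(2 * r)) = 0 := by
    rw [h.invol, map_neg, neg_mul_neg, add_comm (σ (1 + r))]; exact fv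
  have fU : σ (2 + 2 * r) + σ (σ (2 + 2 * r)) + (-1) * σ (-1) = 0 := by
    rw [h.invol, map_neg, map_one]; linear_combination hc
  set g := ue h (f 0) ((2 * r) • w0) (1 + r) * ue h (e 0) ((-1 : F) • w0) (σ (2 + 2 * r)) *
    (ue h (f 0) ((-(2 * r)) • w0) (σ (1 + r)) * ue h (f 0) ((-(2 * r)) • w0) (σ (1 + r))) with hg
  have hgL : g ∈ L := L.mul_mem (L.mul_mem hv hU) (L.mul_mem hV hV)
  have hσ2r : σ (2 * r) = -(2 * r) := by rw [map_mul, map_ofNat, hσr]; ring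
  have hge : g (vec3 hF (1, 0, 0)) = vec3 hF (1 + 4 * r, 0, 0) := by
    simp only [hg, LinearEquiv.mul_apply, ue_f_vec hF hw fV, ue_e_vec hF hw fU, ue_f_vec hF hw fv]
    simp only [map_neg, map_add, map_one, map_mul, map_ofNat, hσr]
    congr 1
    refine Prod.ext ?_ (Prod.ext ?_ ?_)
    · linear_combination ((12) * 1 + (-8) * r : F) * hr + ((8) * 1 + (-8) * r : F) * h5
    · linear_combination ((-76) * 1 + (24) * r + (-16) * r ^ 2 : F) * hr + ((-46) * 1 + (16) * r : F) * h5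
    · linear_combination ((-24) * 1 + (-4) * r + (-8) * r ^ 2 : F) * hr + ((-13) * 1 + (-5) * r : F) * h5
  have hgw : g (vec3 hF (0, 1, 0)) = vec3 hF (2 * r, 3 + 4 * r, 0) := by
    simp only [hg, LinearEquiv.mul_apply, ue_f_vec hF hw fV, ue_e_vec hF hw fU, ue_f_vec hF hw fv]
    simp only [map_neg, map_add, map_one, map_mul, map_ofNat, hσr]
    congr 1
    refine Prod.ext ?_ (Prod.ext ?_ ?_)
    · linear_combination ((8) * 1 : F) * hr + ((5) * 1 + (-2) * r : F) * h5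
    · linear_combination ((-16) * 1 + (16) * r : F) * hr + ((-10) * 1 + (10) * r : F) * h5
    · linear_combination ((8) * 1 + (8) * r : F) * hr + ((5) * 1 + (3) * r : F) * h5
  simp only [vec3, one_smul, zero_smul, add_zero, zero_add] at hge hgw
  have hnF : ∀ x : F, σ x = x → x ≠ r := fun x hx e' => hr0 (by
    rw [e', hσr] at hx
    have : 2 * r = 0 := by linear_combination -hx
    linear_combination 3 * this - r * h5)
  refine top_three hF hw hL hc hu hgL hge (by rw [hgw]; abel) ?_ hv ?_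
  · refine mulGen_of_large_order hcard (fun j hj0 hj => ?_) ?_
    · rw [map_add, map_mul, map_ofNat, map_one, hσr,
        show (1 + 4 * -r) * (3 + 4 * r) = 2 * r by linear_combination (-16) * hr + (-9 - 2 * r) * h5]
      intro he
      have h2r : (2 * r) ^ 2 = 2 := by linear_combination 4 * hr + 2 * h5
      have h1 : (1 : F) ≠ 0 := one_ne_zero
      interval_cases j
      · exact hnF 3 (map_ofNat σ 3) (by linear_combination (-3) * he + r * h5)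
      · exact h1 (by linear_combination he - h2r)
      · exact hnF 4 (map_ofNat σ 4) (by
          linear_combination (-4) * he + (4 * (2 * r)) * h2r + 3 * r * h5)
      · exact h3 (by linear_combination he - ((2 * r) ^ 2 + 2) * h2r)
    · rw [map_add, map_mul, map_ofNat, map_one, hσr,
        show (1 + 4 * -r) * (3 + 4 * r) = 2 * r by linear_combination (-16) * hr + (-9 - 2 * r) * h5]
      intro he
      exact hr0 (by linear_combination 3 * he - r * h5)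
  · rw [ue_apply (hF.ff 0 0) fv' fvb, h.smul_right, hF.ew0, hF.ef 0 one_pos]
    simp only [h.add_left, h.smul_left, hF.ee, hF.w0e, hF.fe 0 one_pos]
    intro he
    exact one_ne_zero (α := F) (by linear_combination (2 - 2 * r) * he + 2 * hr + h5)

theorem exists_two_eight [Finite F] (hcard : Nat.card F = 8 ^ 2) (h2 : (2 : F) = 0) {ξ : F}
    (hΦ : ξ ^ 6 + ξ ^ 3 + 1 = 0) (hσξ : σ ξ = ξ ^ 8) :
    ∃ c : F, c + σ c = -1 ∧ ∃ k ∈ uGroup h, ∀ L : Subgroup (V ≃ₗ[F] V), L ≤ biIsoGroup B → ue h (e 0) w0 c ∈ L →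
      k * ue h (e 0) w0 c * k⁻¹ ∈ L → uGroup h ≤ L := by
  have h9 : ξ ^ 9 = 1 := by linear_combination (ξ ^ 3 - 1) * hΦ
  have hp : ∀ m j : ℕ, ξ ^ (9 * m + j) = ξ ^ j := fun m j => by rw [pow_add, pow_mul, h9, one_pow, one_mul]
  have hσp : ∀ i : ℕ, σ (ξ ^ i) = ξ ^ (8 * i) := fun i => by rw [map_pow, hσξ, ← pow_mul]
  have hξ0 : ξ ≠ 0 := fun h0 => one_ne_zero (α := F) (by rw [h0] at hΦ; linear_combination hΦ)
  have hneg : ∀ x : F, -x = x := fun x => by linear_combination -x * h2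
  have hσ3 : σ (ξ ^ 3) = ξ ^ 6 := by rw [hσp]; exact hp 2 6
  have hc : ξ ^ 3 + σ (ξ ^ 3) = -1 := by rw [hσ3]; linear_combination hΦ
  have h1ξ : 1 + ξ ≠ 0 := fun h0 => one_ne_zero (α := F) (by
    linear_combination hΦ - ((-1) * 1 + ξ - ξ ^ 2 + (2 : F) * 0 + ξ ^ 5 - ξ ^ 4 + ξ ^ 3 - ξ ^ 2 + ξ - 1) * h0 * 0
      - (ξ ^ 5 - ξ ^ 4 + ξ ^ 3) * h0)
  have hσc' : σ (ξ / (1 + ξ)) = 1 / (1 + ξ) := by
    rw [map_div₀, map_add, map_one, hσξ, div_eq_div_iff ?_ h1ξ]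
    · linear_combination h9
    · intro h0
      exact h1ξ (by linear_combination ξ * h0 - h9)
  obtain ⟨k, hk, hkv⟩ := conj_short hF hw (h := h) hc (div_ne_zero hξ0 h1ξ) (s := 1) (by
    rw [hσc', map_one]; field_simp; linear_combination (1 + ξ) * h2)
  refine ⟨ξ ^ 3, hc, k, hk, fun L hL hu hv => ?_⟩
  rw [hkv, hσc', show -(1 / (1 + ξ) / (ξ / (1 + ξ)) ^ 2) = ξ ^ 7 + ξ ^ 8 by
      rw [hneg]; field_simp; linear_combination (-1 : F) * h9,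
    show ξ ^ 3 / (ξ / (1 + ξ) * (1 / (1 + ξ))) = ξ ^ 2 + ξ ^ 4 by
      field_simp; linear_combination ξ * h2] at hv
  set b : F := ξ ^ 7 + ξ ^ 8 with hb
  have hσb : σ b = ξ ^ 1 + ξ ^ 2 := by
    rw [hb, map_add, hσp, hσp, show 8 * 7 = 9 * 6 + 2 by rfl, hp, show 8 * 8 = 9 * 7 + 1 by rfl, hp]; ring
  rw [pow_one] at hσb
  have hσcc : σ (ξ ^ 2 + ξ ^ 4) = ξ ^ 5 + ξ ^ 7 := by
    rw [map_add, hσp, hσp, show 8 * 2 = 9 * 1 + 7 by rfl, hp, show 8 * 4 = 9 * 3 + 5 by rfl, hp]; ring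
  have fv : (ξ ^ 2 + ξ ^ 4) + σ (ξ ^ 2 + ξ ^ 4) + b * σ b = 0 := by
    rw [hσcc, hσb, hb]
    linear_combination ((-2) * 1 + ξ ^ 2 + (2) * ξ ^ 3 + ξ ^ 4 : F) * hΦ + (1 : F) * h2
  have fv' : B (b • w0) (f 0) = 0 := by rw [h.smul_left, hF.w0f, mul_zero]
  have fvb : (ξ ^ 2 + ξ ^ 4) + σ (ξ ^ 2 + ξ ^ 4) + B (b • w0) (b • w0) = 0 := by
    rw [h.smul_left, h.smul_right, hw, mul_one]; exact fv
  have hV := L.inv_mem hv
  rw [ue_inv (hF.ff 0 0) fv' fvb, ← neg_smul, hneg, hσcc] at hV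
  have hU := L.inv_mem hu
  rw [ue_inv (hF.ee 0 0) (hF.w0e 0) (by rw [hw]; linear_combination hc), ← neg_one_smul F w0, hσ3] at hU
  have fV : (ξ ^ 5 + ξ ^ 7) + σ (ξ ^ 5 + ξ ^ 7) + b * σ b = 0 := by
    rw [← hσcc, h.invol, add_comm (σ _)]; exact fv
  have fU : ξ ^ 6 + σ (ξ ^ 6) + (-1) * σ (-1) = 0 := by
    rw [← hσ3, h.invol, map_neg, map_one]; linear_combination hc
  let V1 : F × F × F → F × F × F := fun x =>
    (x.1, x.2.1 + (ξ ^ 7 + ξ ^ 8) * x.1, x.2.2 + (ξ ^ 2 + ξ ^ 4) * x.1 - (ξ + ξ ^ 2) * x.2.1)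
  let U1 : F × F × F → F × F × F := fun x =>
    (x.1 + ξ ^ 6 * x.2.2 + x.2.1, x.2.1 - x.2.2, x.2.2)
  let W1 : F × F × F → F × F × F := fun x => (x.1, x.2.1, x.2.2 + (ξ + ξ ^ 8) * x.1)
  set vv := ue h (f 0) (b • w0) (ξ ^ 2 + ξ ^ 4) with hvv
  set uu := ue h (e 0) ((-1 : F) • w0) (ξ ^ 6) with huu
  set vV := ue h (f 0) (b • w0) (ξ ^ 5 + ξ ^ 7) with hvV
  have hvv1 : ∀ x, vv (vec3 hF x) = vec3 hF (V1 x) := fun x => by
    rw [hvv, ue_f_vec hF hw fv, hσb]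
  have huu1 : ∀ x, uu (vec3 hF x) = vec3 hF (U1 x) := fun x => by
    rw [huu, ue_e_vec hF hw fU, map_neg, map_one]
    congr 1
    refine Prod.ext ?_ (Prod.ext ?_ rfl) <;> simp only [U1] <;> ring
  have hW1 : ∀ x, vV (vV (vec3 hF x)) = vec3 hF (W1 x) := fun x => by
    rw [hvV, ue_f_vec hF hw fV, ue_f_vec hF hw fV, hσb]
    congr 1
    refine Prod.ext rfl (Prod.ext ?_ ?_) <;> simp only [W1, hb]
    · linear_combination (x.1 * (ξ ^ 7 + ξ ^ 8)) * h2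
    · linear_combination (x.1 * ((2) * 1 + (3) * ξ + (-2) * ξ ^ 2 + (-2) * ξ ^ 3 + (-1) * ξ ^ 4 : F)) * hΦ + (x.1 * ((-1) * 1 + (-2) * ξ + ξ ^ 2 + (-1) * ξ ^ 4 + (2) * ξ ^ 5 : F) - x.2.1 * (ξ + ξ ^ 2)) * h2
  set g := vV * vV * uu * vv * uu * vv * uu * vv with hg
  have hgL : g ∈ L := by
    rw [hg]
    exact L.mul_mem (L.mul_mem (L.mul_mem (L.mul_mem (L.mul_mem (L.mul_mem (L.mul_mem hV hV) hU) hv) hU) hv) hU) hv
  have e0 : V1 ((1 : F), (0 : F), (0 : F)) = ((1 : F), (ξ + ξ ^ 2 + ξ ^ 4 + ξ ^ 5 : F), (ξ ^ 2 + ξ ^ 4 : F)) := by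
    refine Prod.ext ?_ (Prod.ext ?_ ?_)
    · simp only [V1] <;> linear_combination (0 : F) * hΦ + (0 : F) * h2
    · simp only [V1] <;> linear_combination (ξ + ξ ^ 2 : F) * hΦ + ((-1) * ξ + (-1) * ξ ^ 2 + (-1) * ξ ^ 4 + (-1) * ξ ^ 5 : F) * h2
    · simp only [V1] <;> linear_combination (0 : F) * hΦ + (0 : F) * h2
  have e1 : U1 ((1 : F), (ξ + ξ ^ 2 + ξ ^ 4 + ξ ^ 5 : F), (ξ ^ 2 + ξ ^ 4 : F)) = ((1 + ξ ^ 4 : F), (ξ + ξ ^ 5 : F), (ξ ^ 2 + ξ ^ 4 : F)) := by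
    refine Prod.ext ?_ (Prod.ext ?_ ?_)
    · simp only [U1] <;> linear_combination ((-1) * ξ + ξ ^ 2 + ξ ^ 4 : F) * hΦ + (ξ : F) * h2
    · simp only [U1] <;> linear_combination (0 : F) * hΦ + (0 : F) * h2
    · simp only [U1] <;> linear_combination (0 : F) * hΦ + (0 : F) * h2
  have e2 : V1 ((1 + ξ ^ 4 : F), (ξ + ξ ^ 5 : F), (ξ ^ 2 + ξ ^ 4 : F)) = ((1 + ξ ^ 4 : F), (ξ ^ 3 + ξ ^ 4 : F), (ξ + ξ ^ 3 + ξ ^ 4 + ξ ^ 5 : F)) := by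
    refine Prod.ext ?_ (Prod.ext ?_ ?_)
    · simp only [V1] <;> linear_combination (0 : F) * hΦ + (0 : F) * h2
    · simp only [V1] <;> linear_combination (ξ + (-1) * ξ ^ 3 + ξ ^ 5 + ξ ^ 6 : F) * hΦ + ((-1) * ξ ^ 4 : F) * h2
    · simp only [V1] <;> linear_combination ((-1) * ξ + ξ ^ 2 : F) * hΦ + ((-1) * ξ ^ 3 + ξ ^ 4 + (-1) * ξ ^ 5 : F) * h2
  have e3 : U1 ((1 + ξ ^ 4 : F), (ξ ^ 3 + ξ ^ 4 : F), (ξ + ξ ^ 3 + ξ ^ 4 + ξ ^ 5 : F)) = ((ξ ^ 2 + ξ ^ 3 + ξ ^ 4 : F), (ξ + ξ ^ 5 : F), (ξ + ξ ^ 3 + ξ ^ 4 + ξ ^ 5 : F)) := by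
    refine Prod.ext ?_ (Prod.ext ?_ ?_)
    · simp only [U1] <;> linear_combination ((-1) * 1 + (-1) * ξ ^ 2 + ξ ^ 3 + ξ ^ 4 + ξ ^ 5 : F) * hΦ + (1 : F) * h2
    · simp only [U1] <;> linear_combination (0 : F) * hΦ + ((-1) * ξ + (-1) * ξ ^ 5 : F) * h2
    · simp only [U1] <;> linear_combination (0 : F) * hΦ + (0 : F) * h2
  have e4 : V1 ((ξ ^ 2 + ξ ^ 3 + ξ ^ 4 : F), (ξ + ξ ^ 5 : F), (ξ + ξ ^ 3 + ξ ^ 4 + ξ ^ 5 : F)) = ((ξ ^ 2 + ξ ^ 3 + ξ ^ 4 : F), (1 + ξ + ξ ^ 3 + ξ ^ 5 : F), (1 + ξ + ξ ^ 3 + ξ ^ 5 : F)) := by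
    refine Prod.ext ?_ (Prod.ext ?_ ?_)
    · simp only [V1] <;> linear_combination (0 : F) * hΦ + (0 : F) * h2
    · simp only [V1] <;> linear_combination ((-1) * 1 + (-2) * ξ + (-2) * ξ ^ 2 + (2) * ξ ^ 4 + (2) * ξ ^ 5 + ξ ^ 6 : F) * hΦ + (ξ + ξ ^ 2 : F) * h2
    · simp only [V1] <;> linear_combination (1 + ξ ^ 2 : F) * hΦ + ((-1) * 1 + (-1) * ξ ^ 2 + (-1) * ξ ^ 3 + ξ ^ 4 : F) * h2
  have e5 : U1 ((ξ ^ 2 + ξ ^ 3 + ξ ^ 4 : F), (1 + ξ + ξ ^ 3 + ξ ^ 5 : F), (1 + ξ + ξ ^ 3 + ξ ^ 5 : F)) = ((1 + ξ ^ 3 + ξ ^ 5 : F), (0 : F), (1 + ξ + ξ ^ 3 + ξ ^ 5 : F)) := by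
    refine Prod.ext ?_ (Prod.ext ?_ ?_)
    · simp only [U1] <;> linear_combination (ξ + (-1) * ξ ^ 2 + ξ ^ 3 + ξ ^ 5 : F) * hΦ + (ξ ^ 2 : F) * h2
    · simp only [U1] <;> linear_combination (0 : F) * hΦ + (0 : F) * h2
    · simp only [U1] <;> linear_combination (0 : F) * hΦ + (0 : F) * h2
  have e6 : W1 ((1 + ξ ^ 3 + ξ ^ 5 : F), (0 : F), (1 + ξ + ξ ^ 3 + ξ ^ 5 : F)) = ((1 + ξ ^ 3 + ξ ^ 5 : F), (0 : F), (0 : F)) := by
    refine Prod.ext ?_ (Prod.ext ?_ ?_)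
    · simp only [W1] <;> linear_combination (0 : F) * hΦ + (0 : F) * h2
    · simp only [W1] <;> linear_combination (0 : F) * hΦ + (0 : F) * h2
    · simp only [W1] <;> linear_combination (1 + (-1) * ξ ^ 4 + ξ ^ 5 + ξ ^ 7 : F) * hΦ + (ξ + ξ ^ 4 : F) * h2
  have w0' : V1 ((0 : F), (1 : F), (0 : F)) = ((0 : F), (1 : F), (ξ + ξ ^ 2 : F)) := by
    refine Prod.ext ?_ (Prod.ext ?_ ?_)
    · simp only [V1] <;> linear_combination (0 : F) * hΦ + (0 : F) * h2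
    · simp only [V1] <;> linear_combination (0 : F) * hΦ + (0 : F) * h2
    · simp only [V1] <;> linear_combination (0 : F) * hΦ + ((-1) * ξ + (-1) * ξ ^ 2 : F) * h2
  have w1 : U1 ((0 : F), (1 : F), (ξ + ξ ^ 2 : F)) = ((1 + ξ + ξ ^ 2 + ξ ^ 4 + ξ ^ 5 : F), (1 + ξ + ξ ^ 2 : F), (ξ + ξ ^ 2 : F)) := by
    refine Prod.ext ?_ (Prod.ext ?_ ?_)
    · simp only [U1] <;> linear_combination (ξ + ξ ^ 2 : F) * hΦ + ((-1) * ξ + (-1) * ξ ^ 2 + (-1) * ξ ^ 4 + (-1) * ξ ^ 5 : F) * h2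
    · simp only [U1] <;> linear_combination (0 : F) * hΦ + ((-1) * ξ + (-1) * ξ ^ 2 : F) * h2
    · simp only [U1] <;> linear_combination (0 : F) * hΦ + (0 : F) * h2
  have w2 : V1 ((1 + ξ + ξ ^ 2 + ξ ^ 4 + ξ ^ 5 : F), (1 + ξ + ξ ^ 2 : F), (ξ + ξ ^ 2 : F)) = ((1 + ξ + ξ ^ 2 + ξ ^ 4 + ξ ^ 5 : F), (1 + ξ : F), (1 + ξ + ξ ^ 2 + ξ ^ 3 : F)) := by
    refine Prod.ext ?_ (Prod.ext ?_ ?_)
    · simp only [V1] <;> linear_combination (0 : F) * hΦ + (0 : F) * h2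
    · simp only [V1] <;> linear_combination ((-2) * 1 + ξ ^ 2 + ξ ^ 5 + (2) * ξ ^ 6 + ξ ^ 7 : F) * hΦ + (1 + ξ ^ 3 + (-1) * ξ ^ 5 : F) * h2
    · simp only [V1] <;> linear_combination (1 + ξ + ξ ^ 2 + ξ ^ 3 : F) * hΦ + ((-1) * 1 + (-1) * ξ + (-1) * ξ ^ 2 + (-2) * ξ ^ 3 : F) * h2
  have w3 : U1 ((1 + ξ + ξ ^ 2 + ξ ^ 4 + ξ ^ 5 : F), (1 + ξ : F), (1 + ξ + ξ ^ 2 + ξ ^ 3 : F)) = ((ξ + ξ ^ 3 : F), (ξ ^ 2 + ξ ^ 3 : F), (1 + ξ + ξ ^ 2 + ξ ^ 3 : F)) := by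
    refine Prod.ext ?_ (Prod.ext ?_ ?_)
    · simp only [U1] <;> linear_combination (ξ + ξ ^ 2 + ξ ^ 3 : F) * hΦ + (1 + (-1) * ξ ^ 3 : F) * h2
    · simp only [U1] <;> linear_combination (0 : F) * hΦ + ((-1) * ξ ^ 2 + (-1) * ξ ^ 3 : F) * h2
    · simp only [U1] <;> linear_combination (0 : F) * hΦ + (0 : F) * h2
  have w4 : V1 ((ξ + ξ ^ 3 : F), (ξ ^ 2 + ξ ^ 3 : F), (1 + ξ + ξ ^ 2 + ξ ^ 3 : F)) = ((ξ + ξ ^ 3 : F), (1 + ξ + ξ ^ 2 + ξ ^ 3 + ξ ^ 5 : F), (1 + ξ ^ 2 + ξ ^ 3 + ξ ^ 4 + ξ ^ 5 : F)) := by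
    refine Prod.ext ?_ (Prod.ext ?_ ?_)
    · simp only [V1] <;> linear_combination (0 : F) * hΦ + (0 : F) * h2
    · simp only [V1] <;> linear_combination ((-1) * 1 + (-1) * ξ + ξ ^ 3 + ξ ^ 4 + ξ ^ 5 : F) * hΦ + ((-1) * ξ ^ 5 : F) * h2
    · simp only [V1] <;> linear_combination (ξ : F) * hΦ + ((-2) * ξ ^ 4 : F) * h2
  have w5 : U1 ((ξ + ξ ^ 3 : F), (1 + ξ + ξ ^ 2 + ξ ^ 3 + ξ ^ 5 : F), (1 + ξ ^ 2 + ξ ^ 3 + ξ ^ 4 + ξ ^ 5 : F)) = ((1 + ξ + ξ ^ 2 + ξ ^ 3 : F), (ξ + ξ ^ 4 : F), (1 + ξ ^ 2 + ξ ^ 3 + ξ ^ 4 + ξ ^ 5 : F)) := by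
    refine Prod.ext ?_ (Prod.ext ?_ ?_)
    · simp only [U1] <;> linear_combination ((-1) * ξ + ξ ^ 3 + ξ ^ 4 + ξ ^ 5 : F) * hΦ + (ξ : F) * h2
    · simp only [U1] <;> linear_combination (0 : F) * hΦ + ((-1) * ξ ^ 4 : F) * h2
    · simp only [U1] <;> linear_combination (0 : F) * hΦ + (0 : F) * h2
  have w6 : W1 ((1 + ξ + ξ ^ 2 + ξ ^ 3 : F), (ξ + ξ ^ 4 : F), (1 + ξ ^ 2 + ξ ^ 3 + ξ ^ 4 + ξ ^ 5 : F)) = ((1 + ξ + ξ ^ 2 + ξ ^ 3 : F), (ξ + ξ ^ 4 : F), (0 : F)) := by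
    refine Prod.ext ?_ (Prod.ext ?_ ?_)
    · simp only [W1] <;> linear_combination (0 : F) * hΦ + (0 : F) * h2
    · simp only [W1] <;> linear_combination (0 : F) * hΦ + (0 : F) * h2
    · simp only [W1] <;> linear_combination ((-1) * 1 + (-1) * ξ + ξ ^ 3 + ξ ^ 4 + ξ ^ 5 : F) * hΦ + (1 + ξ + ξ ^ 2 + ξ ^ 3 + ξ ^ 4 : F) * h2
  have hge : g (vec3 hF (1, 0, 0)) = vec3 hF (1 + ξ ^ 3 + ξ ^ 5, 0, 0) := by
    simp only [hg, LinearEquiv.mul_apply, hvv1, huu1, hW1, e0, e1, e2, e3, e4, e5, e6]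
  have hgw : g (vec3 hF (0, 1, 0)) = vec3 hF (1 + ξ + ξ ^ 2 + ξ ^ 3, ξ + ξ ^ 4, 0) := by
    simp only [hg, LinearEquiv.mul_apply, hvv1, huu1, hW1, w0', w1, w2, w3, w4, w5, w6]
  simp only [vec3, one_smul, zero_smul, add_zero, zero_add] at hge hgw
  have hδ : σ (1 + ξ ^ 3 + ξ ^ 5) * (ξ + ξ ^ 4) = ξ + ξ ^ 2 := by
    rw [map_add, map_add, map_one, hσ3, hσp, show 8 * 5 = 9 * 4 + 4 by rfl, hp]
    linear_combination (ξ ^ 2 + ξ ^ 4 : F) * hΦ + ((-1) * ξ ^ 2 : F) * h2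
  refine top_three hF hw hL hc hu hgL hge (by rw [hgw]; abel) ?_ hv ?_
  · rw [hδ]
    refine mulGen_of_large_order hcard (fun j hj0 hj hjo => ?_) fun h0 => ?_
    · have h3 : (ξ + ξ ^ 2) ^ 3 ≠ 1 := fun he => one_ne_zero (α := F) (by
        linear_combination (1 + ξ + ξ ^ 2 + ξ ^ 5 : F) * he - ((4) * 1 + ξ + ξ ^ 2 + (3) * ξ ^ 3 + (3) * ξ ^ 4 + ξ ^ 5 : F) * hΦ - ((-3) * 1 + (-1) * ξ + (-1) * ξ ^ 2 + (-3) * ξ ^ 3 + (2) * ξ ^ 5 : F) * h2)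
      have h7 : (ξ + ξ ^ 2) ^ 7 ≠ 1 := fun he => one_ne_zero (α := F) (by
        linear_combination (1 + ξ ^ 3 : F) * he - ((-28) * ξ + (-34) * ξ ^ 2 + (-21) * ξ ^ 3 + (-6) * ξ ^ 4 + (6) * ξ ^ 5 + (21) * ξ ^ 6 + (35) * ξ ^ 7 + (35) * ξ ^ 8 + (21) * ξ ^ 9 + (7) * ξ ^ 10 + ξ ^ 11 : F) * hΦ - ((-1) * 1 + (14) * ξ + (17) * ξ ^ 2 + (10) * ξ ^ 3 + (17) * ξ ^ 4 + (14) * ξ ^ 5 : F) * h2)
      have h63 : (ξ + ξ ^ 2) ^ 63 = 1 := by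
        have hne : ξ + ξ ^ 2 ≠ 0 := by
          intro h0; exact mul_ne_zero hξ0 h1ξ (by linear_combination h0)
        haveI := Fintype.ofFinite F
        have := FiniteField.pow_card_sub_one_eq_one (ξ + ξ ^ 2) hne
        rwa [← Nat.card_eq_fintype_card, hcard] at this
      have hg' := pow_gcd_eq_one.2 ⟨hjo, h63⟩
      interval_cases j <;> norm_num at hg' <;> first
        | exact h3 (by rw [hg']; ring)
        | exact h3 hg'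
        | exact h7 hg'
    · exact mul_ne_zero hξ0 h1ξ (by linear_combination h0)
  · rw [hvv, ue_apply (hF.ff 0 0) fv' fvb, h.smul_right, hF.ew0, hF.ef 0 one_pos]
    simp only [h.add_left, h.smul_left, hF.ee, hF.w0e, hF.fe 0 one_pos]
    intro he
    exact one_ne_zero (α := F) (by linear_combination (1 + ξ ^ 2 + ξ ^ 3 + ξ ^ 4 + ξ ^ 5 : F) * he - (1 + (2) * ξ + ξ ^ 2 + ξ ^ 3 : F) * hΦ - ((-1) * 1 + (-1) * ξ + (-1) * ξ ^ 3 : F) * h2)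

end Cfsg.Agent.Lib.UnitRegGen
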