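import Cfsg.Agent.Lib.UnitGen.Standard

/-!
A regular unipotent element of an odd-dimensional Hermitian space with a frame.
-/

set_option autoImplicit false

namespace Cfsg.Agent.Lib.UnitRegGen

open Cfsg.Agent.Lib.Classical Cfsg.Agent.Lib.UnitGen

variable {F : Type*} [Field F] {σ : F →+* F} {V : Type*} [AddCommGroup V] [Module F V] {B : V → V → F}

/-- The product of the first simple root elements of the Levi factor. -/
noncomputable def pathU (h : HermSpace σ B) (e f : ℕ → V) : ℕ → (V ≃ₗ[F] V)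
  | 0 => 1
  | k + 1 => pathU h e f k * ue h (e k) (f (k + 1)) 0

/-- The regular unipotent element. -/
noncomputable def uniU (h : HermSpace σ B) (e f : ℕ → V) (w0 : V) (l : ℕ) (c : F) : V ≃ₗ[F] V :=
  ue h (e l) w0 c * pathU h e f l

/-- The ordered basis of the flag. -/
def flagVec (e f : ℕ → V) (w0 : V) (l j : ℕ) : V :=
  if j ≤ l then f j else if j = l + 1 then w0 else e (2 * l + 2 - j)

/-- The members of the flag. -/
def flagU (F : Type*) [Field F] {V : Type*} [AddCommGroup V] [Module F V] (e f : ℕ → V) (w0 : V) (l j : ℕ) :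
    Submodule F V :=
  Submodule.span F (flagVec e f w0 l '' {i | j ≤ i ∧ i < 2 * l + 3})

/-- `u - 1`. -/
noncomputable abbrev difU (h : HermSpace σ B) (e f : ℕ → V) (w0 : V) (l : ℕ) (c : F) : V →ₗ[F] V :=
  (uniU h e f w0 l c : V →ₗ[F] V) - 1

variable {h : HermSpace σ B} {l : ℕ} {e f : ℕ → V} {w0 : V}

theorem pathU_mem (k : ℕ) : pathU h e f k ∈ uGroup h := by
  induction k with
  | zero => exact one_mem _
  | succ k ih => exact mul_mem ih (ue_mem_uGroup _ _ _)

theorem uniU_mem (c : F) : uniU h e f w0 l c ∈ uGroup h := mul_mem (ue_mem_uGroup _ _ _) (pathU_mem _)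

theorem uniU_iso (c : F) : uniU h e f w0 l c ∈ biIsoGroup B := uGroup_le h (uniU_mem c)

variable (hF : FullFrame B (l + 1) e f w0)
include hF

theorem root_apply (k : ℕ) (x : V) :
    ue h (e k) (f (k + 1)) 0 x = x + B x (e k) • f (k + 1) - B x (f (k + 1)) • e k := by
  rw [ue_apply (hF.ee k k) (hF.fe_ne _ _ (by omega)) (by simp [hF.ff])]
  rw [zero_mul, zero_sub, neg_smul, sub_eq_add_neg]

theorem pathU_fix {x : V} : ∀ {k : ℕ}, (∀ i, i < k → B x (e i) = 0) → (∀ i, 0 < i → i ≤ k → B x (f i) = 0) →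
    pathU h e f k x = x
  | 0, _, _ => rfl
  | k + 1, he, hf => by
    rw [pathU, LinearEquiv.mul_apply, root_apply hF, he k (by omega), hf (k + 1) (by omega) le_rfl, zero_smul,
      zero_smul, add_zero, sub_zero, pathU_fix (fun i hi => he i (by omega)) fun i h0 hi => hf i h0 (by omega)]

theorem pathU_e_zero (k : ℕ) : pathU h e f k (e 0) = e 0 :=
  pathU_fix hF (fun i _ => hF.ee 0 i) fun i hi _ => hF.ef_ne 0 i (by omega)

theorem pathU_f_ge {k j : ℕ} (hj : k ≤ j) : pathU h e f k (f j) = f j :=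
  pathU_fix hF (fun i hi => hF.fe_ne j i (by omega)) fun i _ _ => hF.ff j i

theorem pathU_f_lt : ∀ {k j : ℕ}, j < k → k ≤ l → pathU h e f k (f j) = f j + f (j + 1)
  | 0, j, hj, _ => absurd hj (Nat.not_lt_zero j)
  | k + 1, j, hj, hk => by
    rw [pathU, LinearEquiv.mul_apply, root_apply hF, hF.ff, zero_smul, sub_zero]
    rcases Nat.lt_succ_iff_lt_or_eq.1 hj with hj | rfl
    · rw [hF.fe_ne j k (by omega), zero_smul, add_zero, pathU_f_lt hj (by omega)]
    · rw [hF.fe j (by omega), one_smul, map_add, pathU_f_ge hF le_rfl, pathU_f_ge hF (by omega)]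

theorem pathU_e_succ : ∀ {k j : ℕ}, j < k → k ≤ l → pathU h e f k (e (j + 1)) = e (j + 1) - pathU h e f k (e j)
  | 0, j, hj, _ => absurd hj (Nat.not_lt_zero j)
  | k + 1, j, hj, hk => by
    have hfix : ∀ i, i ≤ k → ue h (e k) (f (k + 1)) 0 (e i) = e i := fun i hi => by
      rw [root_apply hF, hF.ee, hF.ef_ne i (k + 1) (by omega), zero_smul, zero_smul, add_zero, sub_zero]
    rw [pathU, LinearEquiv.mul_apply, LinearEquiv.mul_apply, hfix j (by omega)]
    rcases Nat.lt_succ_iff_lt_or_eq.1 hj with hj | rfl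
    · rw [hfix (j + 1) (by omega), pathU_e_succ hj (by omega)]
    · rw [root_apply hF, hF.ee, zero_smul, add_zero, hF.ef (j + 1) (by omega), one_smul, map_sub]
      congr 1
      exact pathU_fix hF (fun i _ => hF.ee _ i) fun i _ hi => hF.ef_ne _ i (by omega)

variable (hw : B w0 w0 = 1) {c : F} (hc : c + σ c = -1)
include hw hc

theorem short_apply (x : V) :
    ue h (e l) w0 c x = x + B x (e l) • w0 + (c * B x (e l) - B x w0) • e l :=
  ue_apply (hF.ee l l) (hF.w0e l) (by rw [hw]; linear_combination hc) x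

theorem short_e (j : ℕ) : ue h (e l) w0 c (e j) = e j := by
  rw [short_apply hF hw hc, hF.ee, hF.ew0]; simp

theorem uniU_e_zero : uniU h e f w0 l c (e 0) = e 0 := by
  rw [uniU, LinearEquiv.mul_apply, pathU_e_zero hF, short_e hF hw hc]

theorem uniU_e_succ {j : ℕ} (hj : j < l) :
    uniU h e f w0 l c (e (j + 1)) = e (j + 1) - uniU h e f w0 l c (e j) := by
  rw [uniU, LinearEquiv.mul_apply, LinearEquiv.mul_apply, pathU_e_succ hF hj le_rfl, map_sub,
    short_e hF hw hc]

theorem uniU_f_mid {j : ℕ} (hj : j + 1 < l) : uniU h e f w0 l c (f j) = f j + f (j + 1) := by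
  rw [uniU, LinearEquiv.mul_apply, pathU_f_lt hF (by omega) le_rfl, map_add, short_apply hF hw hc,
    short_apply hF hw hc, hF.fe_ne j l (by omega), hF.fe_ne (j + 1) l (by omega), hF.fw0, hF.fw0]
  simp

theorem uniU_f_last : uniU h e f w0 l c (f l) = f l + w0 + c • e l := by
  rw [uniU, LinearEquiv.mul_apply, pathU_f_ge hF le_rfl, short_apply hF hw hc, hF.fe l (by omega), hF.fw0]
  simp

theorem uniU_f_pred {j : ℕ} (hj : j + 1 = l) :
    uniU h e f w0 l c (f j) = f j + f l + w0 + c • e l := by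
  subst hj
  rw [uniU, LinearEquiv.mul_apply, pathU_f_lt hF (by omega) le_rfl, map_add, short_apply hF hw hc,
    short_apply hF hw hc, hF.fe_ne j (j + 1) (by omega), hF.fe (j + 1) (by omega), hF.fw0, hF.fw0]
  simp only [zero_smul, one_smul, mul_zero, mul_one, sub_zero, add_zero]
  abel

theorem uniU_w0 : uniU h e f w0 l c w0 = w0 - e l := by
  rw [uniU, LinearEquiv.mul_apply, pathU_fix hF (fun i _ => hF.w0e i) (fun i _ _ => hF.w0f i),
    short_apply hF hw hc, hF.w0e, hw]
  simp [sub_eq_add_neg]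

omit hw hc in
theorem flag_mem {i j : ℕ} (hij : j ≤ i) (hi : i < 2 * l + 3) :
    flagVec e f w0 l i ∈ flagU F e f w0 l j :=
  Submodule.subset_span ⟨i, ⟨hij, hi⟩, rfl⟩

omit hw hc in
theorem flag_e {i j : ℕ} (hi : i ≤ l) (hj : j + i ≤ 2 * l + 2) : e i ∈ flagU F e f w0 l j := by
  have := flag_mem (F := F) hF (show j ≤ 2 * l + 2 - i by omega) (by omega)
  rwa [flagVec, if_neg (by omega), if_neg (by omega), show 2 * l + 2 - (2 * l + 2 - i) = i by omega] at this

theorem uniU_e_sub : ∀ {i : ℕ}, i ≤ l → uniU h e f w0 l c (e i) - e i ∈ flagU F e f w0 l (2 * l + 3 - i)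
  | 0, _ => by rw [uniU_e_zero hF hw hc, sub_self]; exact zero_mem _
  | i + 1, hi => by
    rw [uniU_e_succ hF hw hc (by omega), show e (i + 1) - uniU h e f w0 l c (e i) - e (i + 1) =
      -(uniU h e f w0 l c (e i) - e i) - e i by abel]
    refine sub_mem (neg_mem ?_) (flag_e hF (by omega) (by omega))
    refine (Submodule.span_mono (Set.image_mono ?_)) (uniU_e_sub (i := i) (by omega))
    intro m hm
    exact ⟨by have := hm.1; omega, hm.2⟩

theorem flag_step {j : ℕ} (hj : j < 2 * l + 2) :
    ∃ κ : F, κ ≠ 0 ∧ uniU h e f w0 l c (flagVec e f w0 l j) - flagVec e f w0 l j - κ • flagVec e f w0 l (j + 1) ∈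
      flagU F e f w0 l (j + 2) := by
  have hw0 : ∀ {i}, i ≤ l + 1 → w0 ∈ flagU F e f w0 l i := fun {i} hi => by
    have := flag_mem (F := F) hF (show i ≤ l + 1 from hi) (by omega)
    rwa [flagVec, if_neg (by omega), if_pos rfl] at this
  rcases Nat.lt_or_ge (j + 1) l with h1 | h1
  · refine ⟨1, one_ne_zero, ?_⟩
    rw [flagVec, if_pos (by omega), flagVec, if_pos (by omega), uniU_f_mid hF hw hc h1]
    simp
  rcases Nat.eq_or_lt_of_le h1 with h1 | h1
  · refine ⟨1, one_ne_zero, ?_⟩
    rw [flagVec, if_pos (by omega), flagVec, if_pos (by omega), uniU_f_pred hF hw hc h1.symm, ← h1, one_smul,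
      show f j + f l + w0 + c • e l - f j - f l = w0 + c • e l by abel]
    exact add_mem (hw0 (by omega)) (Submodule.smul_mem _ _ (flag_e hF le_rfl (by omega)))
  rcases Nat.eq_or_lt_of_le (show l ≤ j by omega) with h2 | h2
  · refine ⟨1, one_ne_zero, ?_⟩
    subst h2
    rw [flagVec, if_pos le_rfl, flagVec, if_neg (by omega), if_pos rfl, uniU_f_last hF hw hc, one_smul,
      show f l + w0 + c • e l - f l - w0 = c • e l by abel]
    exact Submodule.smul_mem _ _ (flag_e hF le_rfl (by omega))
  refine ⟨-1, neg_ne_zero.2 one_ne_zero, ?_⟩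
  rcases Nat.eq_or_lt_of_le (show l + 1 ≤ j by omega) with h3 | h3
  · subst h3
    rw [flagVec, if_neg (by omega), if_pos rfl, flagVec, if_neg (by omega), if_neg (by omega),
      uniU_w0 hF hw hc, show 2 * l + 2 - (l + 1 + 1) = l by omega]
    simp
  obtain ⟨i, hi⟩ : ∃ i, 2 * l + 2 - j = i + 1 := ⟨2 * l + 1 - j, by omega⟩
  rw [flagVec, if_neg (by omega), if_neg (by omega), hi, flagVec, if_neg (by omega), if_neg (by omega),
    show 2 * l + 2 - (j + 1) = i by omega, uniU_e_succ hF hw hc (by omega),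
    show e (i + 1) - uniU h e f w0 l c (e i) - e (i + 1) - (-1 : F) • e i = -(uniU h e f w0 l c (e i) - e i) by
      module]
  refine neg_mem ((Submodule.span_mono (Set.image_mono ?_)) (uniU_e_sub hF hw hc (show i ≤ l by omega)))
  intro m hm
  exact ⟨by have := hm.1; omega, hm.2⟩

theorem flag_map {j : ℕ} {x : V} (hx : x ∈ flagU F e f w0 l j) :
    uniU h e f w0 l c x - x ∈ flagU F e f w0 l (j + 1) := by
  induction hx using Submodule.span_induction with
  | mem x hx =>
    obtain ⟨i, ⟨hji, hi⟩, rfl⟩ := hx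
    rcases Nat.lt_or_ge i (2 * l + 2) with h2 | h2
    · obtain ⟨κ, -, hκ⟩ := flag_step hF hw hc h2 (h := h)
      have h3 : flagU F e f w0 l (i + 2) ≤ flagU F e f w0 l (j + 1) :=
        Submodule.span_mono (Set.image_mono fun m hm => ⟨by have := hm.1; omega, hm.2⟩)
      have := add_mem (h3 hκ)
        (Submodule.smul_mem _ κ (flag_mem (F := F) hF (show j + 1 ≤ i + 1 by omega) (by omega)))
      rwa [sub_add_cancel] at this
    · rw [flagVec, if_neg (by omega), if_neg (by omega), show 2 * l + 2 - i = 0 by omega,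
        uniU_e_zero hF hw hc, sub_self]
      exact zero_mem _
  | zero => simp
  | add x y _ _ hx hy =>
    rw [map_add, show ∀ a b : V, a + b - (x + y) = (a - x) + (b - y) from fun a b => by abel]
    exact add_mem hx hy
  | smul a x _ hx => rw [map_smul, ← smul_sub]; exact Submodule.smul_mem _ a hx

omit hw hc in
theorem flag_zero_eq_top : flagU F e f w0 l 0 = ⊤ := by
  refine eq_top_iff.2 fun x _ => ?_
  refine (Submodule.span_le.2 ?_) (hF.full x)
  rintro v (⟨i, hi, rfl | rfl⟩ | rfl)
  · exact flag_e hF (by omega) (by omega)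
  · have := flag_mem (F := F) hF (Nat.zero_le i) (by omega)
    rwa [flagVec, if_pos (by omega)] at this
  · have := flag_mem (F := F) hF (Nat.zero_le (l + 1)) (by omega)
    rwa [flagVec, if_neg (by omega), if_pos rfl] at this

omit hF hw hc in
theorem flag_top_eq_bot {j : ℕ} (hj : 2 * l + 3 ≤ j) : flagU F e f w0 l j = ⊥ := by
  rw [eq_bot_iff, flagU, Submodule.span_le]
  rintro _ ⟨i, ⟨h1, h2⟩, rfl⟩
  omega

theorem difU_pow_mem : ∀ (k : ℕ) (x : V), ((difU h e f w0 l c) ^ k) x ∈ flagU F e f w0 l k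
  | 0, x => by rw [flag_zero_eq_top hF]; trivial
  | k + 1, x => by
    rw [pow_succ', Module.End.mul_apply]
    exact flag_map hF hw hc (difU_pow_mem k x)

theorem difU_pow_chain {z : V} (hz : B z (e 0) ≠ 0) :
    ∀ k, k < 2 * l + 3 → ∃ κ : F, κ ≠ 0 ∧
      ((difU h e f w0 l c) ^ k) z - κ • flagVec e f w0 l k ∈ flagU F e f w0 l (k + 1)
  | 0, _ => by
    refine ⟨B z (e 0), hz, ?_⟩
    rw [pow_zero, Module.End.one_apply, flagVec, if_pos (Nat.zero_le l)]
    have hx : z ∈ flagU F e f w0 l 0 := by rw [flag_zero_eq_top hF]; trivial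
    clear hz
    induction hx using Submodule.span_induction with
    | mem x hx =>
      obtain ⟨i, ⟨-, hi⟩, rfl⟩ := hx
      rcases i with _ | i
      · rw [flagVec, if_pos (Nat.zero_le l), hF.fe 0 (by omega), one_smul, sub_self]; exact zero_mem _
      · have : B (flagVec e f w0 l (i + 1)) (e 0) = 0 := by
          simp only [flagVec]
          split_ifs
          exacts [hF.fe_ne _ _ (by omega), hF.w0e 0, hF.ee _ 0]
        rw [this, zero_smul, sub_zero]
        exact flag_mem hF (by omega) hi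
    | zero => simp [h.zero_left]
    | add x y _ _ hx hy =>
      rw [h.add_left, add_smul, show x + y - (B x (e 0) • f 0 + B y (e 0) • f 0) =
        (x - B x (e 0) • f 0) + (y - B y (e 0) • f 0) by abel]
      exact add_mem hx hy
    | smul a x _ hx => rw [h.smul_left, mul_smul, ← smul_sub]; exact Submodule.smul_mem _ a hx
  | k + 1, hk => by
    obtain ⟨κ, hκ, hm⟩ := difU_pow_chain hz k (by omega)
    obtain ⟨κ', hκ', hm'⟩ := flag_step hF hw hc (show k < 2 * l + 2 by omega) (h := h)
    refine ⟨κ * κ', mul_ne_zero hκ hκ', ?_⟩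
    have := add_mem (flag_map hF hw hc hm (h := h)) (Submodule.smul_mem _ κ hm')
    rw [pow_succ', Module.End.mul_apply]
    convert this using 1
    rw [LinearMap.sub_apply, Module.End.one_apply, LinearEquiv.coe_coe, map_sub, map_smul]
    module

theorem difU_nilpotent : IsNilpotent (difU h e f w0 l c) :=
  ⟨2 * l + 3, LinearMap.ext fun x => by
    have := difU_pow_mem hF hw hc (2 * l + 3) x (h := h)
    rwa [flag_top_eq_bot le_rfl, Submodule.mem_bot] at this⟩

theorem difU_pow_ne : (difU h e f w0 l c) ^ (2 * l + 2) ≠ 0 := by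
  intro h0
  obtain ⟨κ, hκ, hm⟩ := difU_pow_chain hF hw hc (z := f 0) (by rw [hF.fe 0 (by omega)]; exact one_ne_zero)
    (2 * l + 2) (by omega) (h := h)
  rw [h0, flag_top_eq_bot (by omega), Submodule.mem_bot, LinearMap.zero_apply, zero_sub, neg_eq_zero,
    smul_eq_zero, or_iff_right hκ, flagVec, if_neg (by omega), if_neg (by omega), Nat.sub_self] at hm
  have := hF.ef 0 (by omega)
  rw [hm, h.zero_left] at this
  exact zero_ne_one this

/-- A vector off the hyperplane of `e_0` is cyclic. -/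
theorem eq_top_of_cyclic {z : V} (hz : B z (e 0) ≠ 0) {W : Submodule F V} (hzW : z ∈ W)
    (hW : ∀ x ∈ W, uniU h e f w0 l c x ∈ W) : W = ⊤ := by
  have hM : ∀ k, ((difU h e f w0 l c) ^ k) z ∈ W := fun k => by
    induction k with
    | zero => simpa using hzW
    | succ k ih =>
      rw [pow_succ', Module.End.mul_apply]
      exact W.sub_mem (hW _ ih) ih
  have key : ∀ d j, j + d = 2 * l + 3 → flagU F e f w0 l j ≤ W := by
    intro d
    induction d with
    | zero => intro j hj; rw [flag_top_eq_bot (by omega)]; exact bot_le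
    | succ d ih =>
      intro j hj
      rw [flagU, Submodule.span_le]
      rintro _ ⟨i, ⟨h1, h2⟩, rfl⟩
      rcases Nat.eq_or_lt_of_le h1 with rfl | h1
      · obtain ⟨κ, hκ, hm⟩ := difU_pow_chain hF hw hc hz j h2 (h := h)
        have := W.sub_mem (hM j) (ih (j + 1) (by omega) hm)
        rw [sub_sub_cancel] at this
        have := W.smul_mem κ⁻¹ this
        rwa [inv_smul_smul₀ hκ] at this
      · exact ih (j + 1) (by omega) (flag_mem hF (by omega) h2)
  exact eq_top_iff.2 fun x _ => key _ 0 (Nat.zero_add _) (by rw [flag_zero_eq_top hF]; trivial)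

theorem uniU_uniU_ne {z : V} (hz : B z (e 0) ≠ 0) :
    uniU h e f w0 l c (uniU h e f w0 l c z) ∉ Submodule.span F {z, uniU h e f w0 l c z} := by
  intro hmem
  obtain ⟨α, β, hab⟩ := Submodule.mem_span_pair.1 hmem
  set D := difU h e f w0 l c with hD
  have hDz : ∀ x, D x = uniU h e f w0 l c x - x := fun x => rfl
  have hz1 : ∀ x, B (D x) (e 0) = 0 := fun x => by
    rw [hDz, h.sub_left]
    nth_rewrite 1 [← uniU_e_zero hF hw hc (h := h)]
    rw [uniU_iso (h := h) c x (e 0), sub_self]
  have e1 : D (D z) = (α + β - 1) • z + (β - 2) • D z := by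
    rw [hDz, hDz, map_sub, ← hab]; module
  have e2 : α + β - 1 = 0 := by
    have := congrArg (fun x => B x (e 0)) e1
    simp only [hz1, h.add_left, h.smul_left, mul_zero, add_zero] at this
    exact (mul_eq_zero.1 this.symm).resolve_right hz
  rw [e2, zero_smul, zero_add] at e1
  have e3 : ∀ k, (D ^ (k + 1)) z = (β - 2) ^ k • D z := fun k => by
    induction k with
    | zero => simp
    | succ k ih => rw [pow_succ', Module.End.mul_apply, ih, map_smul, e1, smul_smul, pow_succ]
  have e4 : (β - 2) ^ (2 * l + 2) • D z = 0 := by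
    rw [← e3]
    have := difU_pow_mem hF hw hc (2 * l + 3) z (h := h)
    rwa [flag_top_eq_bot le_rfl, Submodule.mem_bot] at this
  obtain ⟨κ, hκ, hm⟩ := difU_pow_chain hF hw hc hz (2 * l + 2) (by omega) (h := h)
  have hne : (D ^ (2 * l + 2)) z ≠ 0 := by
    intro h0
    rw [h0, flag_top_eq_bot (by omega), Submodule.mem_bot, zero_sub, neg_eq_zero,
      smul_eq_zero, or_iff_right hκ, flagVec, if_neg (by omega), if_neg (by omega), Nat.sub_self] at hm
    have := hF.ef 0 (by omega)
    rw [hm, h.zero_left] at this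
    exact zero_ne_one this
  rcases smul_eq_zero.1 e4 with h0 | h0
  · rw [pow_eq_zero_iff (by omega)] at h0
    rw [e3, h0, zero_pow (by omega), zero_smul] at hne
    exact hne rfl
  · rw [e3, h0, smul_zero] at hne
    exact hne rfl

end Cfsg.Agent.Lib.UnitRegGen
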