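import Cfsg.Agent.Lib.UnitRegGen.Action
import Cfsg.Agent.Lib.UnitRegGen.Unip
import Cfsg.Agent.Lib.UnitGen.TwoGen

/-!
Two conjugate regular unipotent elements generate the three-dimensional special unitary group.
-/

set_option autoImplicit false

namespace Cfsg.Agent.Lib.UnitRegGen

open Cfsg.Agent.Lib.Classical Cfsg.Agent.Lib.UnitGen

variable {F : Type*} [Field F] {σ : F →+* F} {V : Type*} [AddCommGroup V] [Module F V] {B : V → V → F}

/-- Every additive subgroup with `1` stable under multiplication by `δ` is everything. -/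
def MulGen (δ : F) : Prop := ∀ R : AddSubgroup F, 1 ∈ R → (∀ x ∈ R, δ * x ∈ R) → R = ⊤

variable {h : HermSpace σ B} {e f : ℕ → V} {w0 : V}
variable (hF : FullFrame B 1 e f w0) (hw : B w0 w0 = 1)
include h hF hw

theorem three_coord (x : V) : x = B x (f 0) • e 0 + B x w0 • w0 + B x (e 0) • f 0 := by
  have hx := hF.full x
  induction hx using Submodule.span_induction with
  | mem v hv =>
    rcases hv with ⟨i, hi, rfl | rfl⟩ | rfl
    · obtain rfl : i = 0 := by omega
      rw [hF.ef 0 hi, hF.ee, hF.ew0]; simp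
    · obtain rfl : i = 0 := by omega
      rw [hF.fe 0 hi, hF.ff, hF.fw0]; simp
    · rw [hF.w0e, hF.w0f, hw]; simp
  | zero => simp [h.zero_left]
  | add a b _ _ ha hb =>
    simp only [h.add_left, add_smul]
    calc a + b = (B a (f 0) • e 0 + B a w0 • w0 + B a (e 0) • f 0) +
        (B b (f 0) • e 0 + B b w0 • w0 + B b (e 0) • f 0) := by rw [← ha, ← hb]
      _ = _ := by abel
  | smul t a _ ha =>
    simp only [h.smul_left, mul_smul]
    rw [← smul_add, ← smul_add, ← ha]

theorem short_three {c : F} (hc : c + σ c = -1) (x : V) :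
    ue h (e 0) w0 c x = x + B x (e 0) • w0 + (c * B x (e 0) - B x w0) • e 0 :=
  ue_apply (hF.ee 0 0) (hF.w0e 0) (by rw [hw]; linear_combination hc) x

theorem fill_coord {a t : F} :
    B (t • w0 + a • e 0) (t • w0 + a • e 0) = t * σ t ∧ B (t • w0 + a • e 0) (e 0) = 0 := by
  simp [h.add_left, h.add_right, h.smul_left, h.smul_right, hw, hF.w0e, hF.ee, hF.ew0]

/-- An element of a Borel subgroup with an irrational weight and one moving `e_0` give everything. -/
theorem top_three {L : Subgroup (V ≃ₗ[F] V)} (hL : L ≤ biIsoGroup B) {c : F} (hc : c + σ c = -1)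
    (hu : ue h (e 0) w0 c ∈ L) {g : V ≃ₗ[F] V} (hg : g ∈ L) {μ ν r : F} (hge : g (e 0) = μ • e 0)
    (hgw : g w0 = ν • w0 + r • e 0) (hgen : MulGen (σ μ * ν)) {g' : V ≃ₗ[F] V} (hg' : g' ∈ L)
    (hmove : B (g' (e 0)) (e 0) ≠ 0) : uGroup h ≤ L := by
  have hee := hF.ee 0 0
  let R : AddSubgroup F :=
    { carrier := {x | ∃ a : F, x • w0 + a • e 0 ∈ WSet h L (e 0)}
      zero_mem' := ⟨0, by simpa using WSet.zero⟩
      add_mem' := fun {x y} hx hy => by
        obtain ⟨a, ha⟩ := hx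
        obtain ⟨b, hb⟩ := hy
        exact ⟨a + b, by convert WSet.add hee ha hb using 1; module⟩
      neg_mem' := fun {x} hx => by
        obtain ⟨a, ha⟩ := hx
        exact ⟨-a, by convert WSet.neg hee ha using 1; module⟩ }
  have hR : R = ⊤ := by
    refine hgen R ⟨0, ?_⟩ fun x hx => ?_
    · rw [one_smul, zero_smul, add_zero]
      exact ⟨hF.w0e 0, c, by rw [hw]; linear_combination hc, hu⟩
    · obtain ⟨a, ha⟩ := hx
      refine ⟨σ μ * (x * r + a * μ), ?_⟩
      convert WSet.map hL hee hg hge ha using 1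
      rw [map_add, map_smul, map_smul, hgw, hge]
      module
  have hlong : Long h L (e 0) := by
    intro d hd
    obtain ⟨t, ht⟩ := h.exists_trace 1 (map_one σ)
    obtain ⟨a, ha⟩ : d * t ∈ R := hR ▸ AddSubgroup.mem_top _
    obtain ⟨b, hb⟩ : (1 : F) ∈ R := hR ▸ AddSubgroup.mem_top _
    obtain ⟨hwu, c₁, hc₁, hm₁⟩ := ha
    obtain ⟨hwu', c₂, hc₂, hm₂⟩ := hb
    generalize hw₁ : (d * t) • w0 + a • e 0 = w₁ at hwu hc₁ hm₁
    generalize hw₂ : (1 : F) • w0 + b • e 0 = w₂ at hwu' hc₂ hm₂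
    have hsum : B (w₂ + w₁) (e 0) = 0 := by rw [h.add_left, hwu, hwu', add_zero]
    have hm := L.mul_mem (L.mul_mem hm₁ hm₂) (L.inv_mem (L.mul_mem hm₂ hm₁))
    rw [ue_mul hee hwu hwu' hc₁ hc₂, ue_mul hee hwu' hwu hc₂ hc₁, ue_inv hee hsum (fill_mul hc₂ hc₁ h),
      ue_mul hee (by rw [h.add_left, hwu, hwu', add_zero]) (by rw [h.neg_left, hsum, neg_zero]) (fill_mul hc₁ hc₂ h)
        (by rw [h.invol, h.neg_left, h.neg_right, neg_neg]; linear_combination fill_mul hc₂ hc₁ h)] at hm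
    convert hm using 2
    · module
    · have e1 : B w₁ w₂ = d * t := by
        rw [← hw₁, ← hw₂]
        simp [h.add_left, h.add_right, h.smul_left, h.smul_right, hw, hF.w0e, hF.ee, hF.ew0]
      have e2 : B w₂ w₁ = σ (d * t) := by rw [← h.symm, e1]
      have e11 : B w₂ w₂ + (c₂ + σ c₂) = 0 := by linear_combination hc₂
      have hσd : σ d = -d := by linear_combination hd
      simp only [map_sub, map_add, map_mul, h.neg_left, h.add_left, h.add_right, e1, e2, h.invol, hσd]
      linear_combination (-d) * ht - hc₁ - hc₂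
  refine uGroup_le_of_eichAll hL hee (eichAll_of_wset hee hlong fun w hwe => ?_) hg' hmove
  obtain ⟨a, ha⟩ : B w w0 ∈ R := hR ▸ AddSubgroup.mem_top _
  have := WSet.add hee ha (WSet.smul_self hee hlong (B w (f 0) - a))
  convert this using 1
  conv_lhs => rw [three_coord hF hw (h := h) w, hwe]
  module

/-- The swap of the isotropic lines. -/
theorem exists_swap {c' s : F} (hc' : c' ≠ 0) (hs : c' + σ c' + s * σ s = 0) :
    ∃ k ∈ uGroup h, k (e 0) = (σ c')⁻¹ • f 0 ∧ k (f 0) = c' • e 0 ∧ k w0 = (-(σ c' / c')) • w0 := by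
  have hee := hF.ee 0 0
  have hff := hF.ff 0 0
  have hfill : c' + σ c' + B (s • w0) (s • w0) = 0 := by
    rw [h.smul_left, h.smul_right, hw, mul_one]; exact hs
  obtain ⟨h1, h2, h3⟩ := sflip_vals (w := s • w0) hee hff (hF.ef 0 one_pos) (hF.fe 0 one_pos)
    (by rw [h.smul_left, hF.w0e, mul_zero]) (by rw [h.smul_left, hF.w0f, mul_zero]) hfill hc' (h := h)
  refine ⟨_, sflip_mem _ _ _ _, h1, h2, ?_⟩
  by_cases hs0 : s = 0
  · have hσ : σ c' / c' = -1 := by
      rw [div_eq_iff hc']; rw [hs0, zero_mul, add_zero] at hs; linear_combination hs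
    rw [sflip, hσ, neg_neg, one_smul, hs0, zero_smul, smul_zero, smul_zero, LinearEquiv.mul_apply,
      LinearEquiv.mul_apply, ue_fix _ (hF.w0e 0) (h.zero_right _), ue_fix _ (hF.w0f 0) (h.zero_right _),
      ue_fix _ (hF.w0e 0) (h.zero_right _)]
  · rw [map_smul, smul_comm] at h3
    exact (smul_right_injective V hs0) h3

theorem det_three [Finite F] {g : V ≃ₗ[F] V} (hg : g ∈ uGroup h) {μ ν ρ : F} (he : g (e 0) = μ • e 0)
    (hgw : B (g w0) w0 = ν) (hgf : B (g (f 0)) (e 0) = ρ) (hgw' : B (g w0) (e 0) = 0) : μ * ν * ρ = 1 := by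
  let b : Fin 3 → V := ![e 0, w0, f 0]
  have hsp : ⊤ ≤ Submodule.span F (Set.range b) := fun x _ => by
    rw [three_coord hF hw (h := h) x]
    refine add_mem (add_mem ?_ ?_) ?_ <;> refine Submodule.smul_mem _ _ (Submodule.subset_span ?_)
    exacts [⟨0, rfl⟩, ⟨1, rfl⟩, ⟨2, rfl⟩]
  have hli : LinearIndependent F b := by
    rw [Fintype.linearIndependent_iff]
    intro a ha i
    simp only [b, Fin.sum_univ_three] at ha
    have h0 := congrArg (fun x => B x (f 0)) ha
    have h1 := congrArg (fun x => B x w0) ha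
    have h2 := congrArg (fun x => B x (e 0)) ha
    simp [h.add_left, h.smul_left, h.zero_left, hF.ee, hF.ff, hF.ef 0 one_pos, hF.fe 0 one_pos, hF.w0e, hF.w0f,
      hF.ew0, hF.fw0, hw] at h0 h1 h2
    fin_cases i <;> assumption
  let bs := Module.Basis.mk hli hsp
  have hrep : ∀ x : V, bs.repr x 0 = B x (f 0) ∧ bs.repr x 1 = B x w0 ∧ bs.repr x 2 = B x (e 0) := by
    intro x
    have hx : x = bs.equivFun.symm ![B x (f 0), B x w0, B x (e 0)] := by
      rw [Module.Basis.equivFun_symm_apply, Fin.sum_univ_three]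
      simp only [bs, Module.Basis.mk_apply, b]
      exact three_coord hF hw (h := h) x
    have he' := congrArg bs.equivFun hx
    rw [LinearEquiv.apply_symm_apply] at he'
    exact ⟨congrFun he' 0, congrFun he' 1, congrFun he' 2⟩
  have hd : LinearMap.det (g : V →ₗ[F] V) = 1 := by
    rw [← LinearEquiv.coe_det, det_eq_one_of_mem_uGroup h hg, Units.val_one]
  rw [← LinearMap.det_toMatrix bs, Matrix.det_fin_three] at hd
  have hb : ∀ i, bs i = b i := fun i => Module.Basis.mk_apply hli hsp i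
  simp only [LinearMap.toMatrix_apply, LinearEquiv.coe_coe, hb, b] at hd
  simp only [Matrix.cons_val_zero, Matrix.cons_val_one, Matrix.cons_val_two, Matrix.head_cons,
    Matrix.tail_cons, (hrep _).1, (hrep _).2.1, (hrep _).2.2, he, h.smul_left, hgw, hgf, hgw', hF.ee, hF.ew0,
    hF.ef 0 one_pos, mul_zero, mul_one] at hd
  linear_combination hd

/-- The generic choice of two conjugates. -/
theorem exists_two [Finite F] (hnorm : ∀ a : F, σ a = a → ∃ x, x * σ x = a) {c : F} (hc : c + σ c = -1)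
    (hc0 : c ≠ 0) (hgen : MulGen ((σ c / c) ^ 3)) :
    ∃ k ∈ uGroup h, ∀ L : Subgroup (V ≃ₗ[F] V), L ≤ biIsoGroup B → ue h (e 0) w0 c ∈ L →
      k * ue h (e 0) w0 c * k⁻¹ ∈ L → uGroup h ≤ L := by
  have hee := hF.ee 0 0
  have hσc : σ c ≠ 0 := (map_ne_zero σ).2 hc0
  have hN : σ (c * σ c) = c * σ c := by rw [map_mul, h.invol, mul_comm]
  set Nc : F := c * σ c with hNc
  have hNc0 : Nc ≠ 0 := mul_ne_zero hc0 hσc
  obtain ⟨s, hs⟩ := hnorm (2 * Nc) (by rw [map_mul, hN, map_ofNat])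
  obtain ⟨k₀, hk₀, hke, hkf, hkw⟩ := exists_swap hF hw (h := h) (c' := -Nc) (s := s) (neg_ne_zero.2 hNc0)
    (by rw [map_neg, hN, hs]; ring)
  rw [map_neg, hN] at hke hkw
  rw [show -(-Nc / -Nc) = (-1 : F) by field_simp] at hkw
  set x : F := (1 - Nc) * c with hx
  obtain ⟨y, hy⟩ := h.exists_fill (x • w0)
  set q := ue h (e 0) (x • w0) y with hq
  have hxe : B (x • w0) (e 0) = 0 := by rw [h.smul_left, hF.w0e, mul_zero]
  have hqv : ∀ p : V, q p = p + B p (e 0) • x • w0 + (y * B p (e 0) - σ x * B p w0) • e 0 := fun p => by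
    rw [hq, ue_apply hee hxe hy, h.smul_right]
  have hqf : q (f 0) = f 0 + x • w0 + y • e 0 := by
    rw [hqv, hF.fe 0 one_pos, hF.fw0]; module
  have hqw : q w0 = w0 - σ x • e 0 := by rw [hqv, hF.w0e, hw]; module
  have hqe : q (e 0) = e 0 := by rw [hqv, hF.ee, hF.ew0]; simp
  refine ⟨q * k₀, mul_mem (ue_mem_uGroup _ _ _) hk₀, fun L hL hu hv => ?_⟩
  set k := q * k₀ with hk
  set u := ue h (e 0) w0 c with hudef
  set v := k * u * k⁻¹ with hvdef
  set γ : F := σ c / c with hγ
  have hγ0 : γ ≠ 0 := div_ne_zero hσc hc0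
  set z : V := (-Nc⁻¹) • f 0 with hz
  have hkz : k z = e 0 := by
    rw [hk, LinearEquiv.mul_apply, hz, map_smul, hkf, smul_smul, map_smul, hqe,
      show -Nc⁻¹ * -Nc = 1 by field_simp, one_smul]
  have hue : ∀ p, u p = p + B p (e 0) • w0 + (c * B p (e 0) - B p w0) • e 0 := short_three hF hw hc
  have huf : u (f 0) = f 0 + w0 + c • e 0 := by rw [hue, hF.fe 0 one_pos, hF.fw0]; module
  have huw : u w0 = w0 - e 0 := by rw [hue, hF.w0e, hw]; module
  have huee : u (e 0) = e 0 := by rw [hue, hF.ee, hF.ew0]; simp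
  set f' : V := k (u z) with hf'
  have hf'v : f' = (1 - σ x / Nc + c / Nc ^ 2 * y) • e 0 + (Nc⁻¹ + c / Nc ^ 2 * x) • w0 + (c / Nc ^ 2) • f 0 := by
    simp only [hf', hz, hk, LinearEquiv.mul_apply, map_smul, map_add, huf, hkf, hkw, hke, hqf, hqw, hqe]
    match_scalars <;> field_simp <;> ring
  set X : V := k (u⁻¹ z) with hXdef
  have huif : u⁻¹ (f 0) = f 0 - w0 + σ c • e 0 := by
    apply u.injective
    rw [show u (u⁻¹ (f 0)) = f 0 from u.apply_symm_apply _, map_add, map_sub, map_smul, huf, huw, huee]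
    rw [show σ c = -1 - c by linear_combination hc]
    module
  have hXv : X = (1 + σ x / Nc + σ c / Nc ^ 2 * y) • e 0 + (-Nc⁻¹ + σ c / Nc ^ 2 * x) • w0
      + (σ c / Nc ^ 2) • f 0 := by
    simp only [hXdef, hz, hk, LinearEquiv.mul_apply, map_smul, map_add, map_sub, huif, hkf, hkw, hke, hqf, hqw, hqe]
    match_scalars <;> field_simp <;> ring
  have hσc' : σ c = -1 - c := by linear_combination hc
  have hγuf : X = γ • u f' := by
    rw [hXv, hf'v]
    simp only [map_add, map_smul, huf, huw, huee, hγ, hNc]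
    match_scalars
    all_goals try simp only [hx, map_mul, map_sub, map_one, hNc, h.invol]
    all_goals field_simp
    all_goals rw [hσc']
    all_goals ring
  have hv1 : v (e 0) = f' := by
    rw [hvdef, ← hkz, LinearEquiv.mul_apply, LinearEquiv.mul_apply, show k⁻¹ (k z) = z from k.symm_apply_apply z]
  have hv2 : v X = e 0 := by
    rw [hvdef, LinearEquiv.mul_apply, LinearEquiv.mul_apply, hXdef,
      show k⁻¹ (k (u⁻¹ z)) = u⁻¹ z from k.symm_apply_apply _, show u (u⁻¹ z) = z from u.apply_symm_apply z, hkz]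
  set g := v * u * v with hgdef
  have hge : g (e 0) = γ⁻¹ • e 0 := by
    rw [hgdef, LinearEquiv.mul_apply, LinearEquiv.mul_apply, hv1,
      show u f' = γ⁻¹ • X by rw [hγuf, inv_smul_smul₀ hγ0], map_smul, hv2]
  have hgL : g ∈ L := L.mul_mem (L.mul_mem hv hu) hv
  have hgU : g ∈ uGroup h := by
    have huU : u ∈ uGroup h := ue_mem_uGroup _ _ _
    have hkU : k ∈ uGroup h := mul_mem (ue_mem_uGroup _ _ _) hk₀
    exact mul_mem (mul_mem (mul_mem (mul_mem hkU huU) (inv_mem hkU)) huU) (mul_mem (mul_mem hkU huU) (inv_mem hkU))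
  have hgi := hL hgL
  have hσγ : σ γ = γ⁻¹ := by rw [hγ, map_div₀, h.invol, inv_div]
  have hw' : B (g w0) (e 0) = 0 := by
    have := hgi w0 (e 0)
    rw [hge, h.smul_right, hF.w0e] at this
    exact (mul_eq_zero.1 this).resolve_left ((map_ne_zero σ).2 (inv_ne_zero hγ0))
  have hρ : B (g (f 0)) (e 0) = γ⁻¹ := by
    have := hgi (f 0) (e 0)
    rw [hge, h.smul_right, hF.fe 0 one_pos, map_inv₀, hσγ, inv_inv] at this
    field_simp
    linear_combination this
  have hdet := det_three hF hw hgU hge rfl hρ hw'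
  have hν : B (g w0) w0 = γ ^ 2 := by
    field_simp at hdet
    linear_combination hdet
  refine top_three hF hw hL hc hu hgL hge (ν := B (g w0) w0) (r := B (g w0) (f 0)) ?_ ?_ hv ?_
  · conv_lhs => rw [three_coord hF hw (h := h) (g w0), hw', zero_smul, add_zero, add_comm]
  · convert hgen using 1
    rw [map_inv₀, hσγ, inv_inv, hν]
    ring
  · rw [hv1, hf'v]
    simp [h.add_left, h.smul_left, hF.ee, hF.w0e, hF.fe 0 one_pos, hc0, hNc0]

end Cfsg.Agent.Lib.UnitRegGen
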