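import Cfsg.Agent.Lib.UnitRegGen.Exceptional

/-!
The passage to the matrix groups, and the choice of the parameters in dimension three.
-/

set_option autoImplicit false

namespace Cfsg.Agent.Lib.UnitRegGen

open Cfsg.Agent.Lib.Classical Cfsg.Agent.Lib.UnitGen

variable {F : Type*} [Field F] [Fintype F] {q : ℕ}

theorem exists_preimage (hF : Fintype.card F = q ^ 2) {n : ℕ} {g : (Fin n → F) ≃ₗ[F] (Fin n → F)}
    (hg : g ∈ uGroup (hermSpace_std hF n)) : ∃ A : Cfsg.SU n F q, suLinear n F q A = g := by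
  rw [← range_suLinear hF] at hg
  exact hg

theorem closure_eq_top (hF : Fintype.card F = q ^ 2) {n : ℕ} {S : Set (Cfsg.SU n F q)}
    (hS : uGroup (hermSpace_std hF n) ≤ Subgroup.closure (suLinear n F q '' S)) :
    Subgroup.closure S = ⊤ := by
  refine Subgroup.map_injective (suLinear_injective n) ?_
  rw [MonoidHom.map_closure, ← MonoidHom.range_eq_map]
  refine le_antisymm ?_ (by rw [range_suLinear hF]; exact hS)
  rw [Subgroup.closure_le]
  rintro _ ⟨A, -, rfl⟩
  exact ⟨A, rfl⟩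

theorem regular_matrix {n : ℕ} (A : Cfsg.SU n F q) {N : ℕ}
    (hnil : IsNilpotent ((suLinear n F q A : (Fin n → F) →ₗ[F] (Fin n → F)) - 1))
    (hne : ((suLinear n F q A : (Fin n → F) →ₗ[F] (Fin n → F)) - 1) ^ N ≠ 0) :
    IsNilpotent (((A : Matrix.SpecialLinearGroup (Fin n) F) : Matrix (Fin n) (Fin n) F) - 1) ∧
      (((A : Matrix.SpecialLinearGroup (Fin n) F) : Matrix (Fin n) (Fin n) F) - 1) ^ N ≠ 0 := by
  set M := ((A : Matrix.SpecialLinearGroup (Fin n) F) : Matrix (Fin n) (Fin n) F) - 1 with hM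
  have e : ((suLinear n F q A : (Fin n → F) →ₗ[F] (Fin n → F)) - 1) = Matrix.toLinAlgEquiv' M := by
    rw [hM, map_sub, map_one]
    rfl
  rw [e] at hnil hne
  refine ⟨?_, fun h0 => hne (by rw [← map_pow, h0, map_zero])⟩
  obtain ⟨m, hm⟩ := hnil
  exact ⟨m, (Matrix.toLinAlgEquiv' (R := F) (n := Fin n)).injective (by rw [map_pow, hm, map_zero])⟩

theorem norm_surj (hF : Fintype.card F = q ^ 2) (a : F) (ha : Forms.qPowHom hF a = a) :
    ∃ x, x * Forms.qPowHom hF x = a := by
  by_cases ha0 : a = 0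
  · exact ⟨0, by simp [ha0]⟩
  have hc := S0754.result hF a ha0 (by rwa [Forms.qPowHom_apply] at ha)
  obtain ⟨x, hx⟩ : Nonempty {x : F // x ^ (q + 1) = a} := (Nat.card_pos_iff.1 (by omega)).1
  exact ⟨x, by rw [Forms.qPowHom_apply, ← hx, pow_succ, mul_comm]⟩

/-- A subfield of a too small order. -/
theorem card_arith {q Q r : ℕ} (hq : 3 ≤ q) (hq5 : q ≠ 5) (hq8 : q ≠ 8) (hQ : Q ^ r = q ^ 2) {o : ℕ}
    (ho : o ∣ q + 1) (hoQ : o ∣ Q - 1) (ho3 : q + 1 ≤ 3 * o) (hq3 : q = 3 → o = 4) : q < Q := by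
  by_contra hle
  have hQ0 : 2 ≤ Q := by
    by_contra h
    have h9 : 3 ^ 2 ≤ q ^ 2 := Nat.pow_le_pow_left hq 2
    interval_cases Q
    · rcases r with _ | r
      · simp at hQ; omega
      · simp at hQ; omega
    · simp at hQ; omega
  rcases Nat.lt_or_ge Q q with hlt | hge
  · have h3 : 3 ≤ r := by
      by_contra hr
      have h1 : Q ^ r ≤ Q ^ 2 := Nat.pow_le_pow_right (by omega) (by omega)
      have h2 : Q ^ 2 < q ^ 2 := Nat.pow_lt_pow_left hlt (by omega)
      omega
    have h4 : Q ^ 3 ≤ q ^ 2 := hQ ▸ Nat.pow_le_pow_right (by omega) h3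
    have h5 : o ≤ Q - 1 := Nat.le_of_dvd (by omega) hoQ
    have h6 : q + 4 ≤ 3 * Q := by omega
    have h7 : q < 27 := by
      by_contra h27
      have e1 : (q + 4) ^ 3 ≤ (3 * Q) ^ 3 := Nat.pow_le_pow_left h6 3
      rw [mul_pow] at e1
      nlinarith
    have h8 : Q < 9 := by
      by_contra h9'
      have e1 : 9 ^ 3 ≤ Q ^ 3 := Nat.pow_le_pow_left (by omega) 3
      have e2 : q ^ 2 < 27 ^ 2 := Nat.pow_lt_pow_left h7 (by omega)
      omega
    have h10 : q ≤ 20 := by omega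
    interval_cases Q <;> interval_cases q <;> first | omega | (norm_num at h4)
  · obtain rfl : Q = q := by omega
    have h2 : o ∣ 2 := by
      have := Nat.dvd_sub ho hoQ
      rwa [show Q + 1 - (Q - 1) = 2 by omega] at this
    have := Nat.le_of_dvd (by norm_num) h2
    have : Q ≤ 5 := by omega
    interval_cases Q <;> interval_cases o <;> omega

theorem exists_normOne_gen (hF : Fintype.card F = q ^ 2) : ∃ ξ : F, orderOf ξ = q + 1 := by
  have hcard : Nat.card F = q ^ 2 := by rw [Nat.card_eq_fintype_card, hF]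
  have hq2 := Forms.two_le_of_card_sq hF
  obtain ⟨c, hc⟩ := IsCyclic.exists_monoid_generator (α := Fˣ)
  have hord : orderOf c = q ^ 2 - 1 := by
    rw [orderOf_eq_card_of_forall_mem_powers hc, Nat.card_units, hcard]
  refine ⟨((c ^ (q - 1) : Fˣ) : F), ?_⟩
  have hfac : q ^ 2 - 1 = (q + 1) * (q - 1) := by
    obtain ⟨m, rfl⟩ : ∃ m, q = m + 1 := ⟨q - 1, by omega⟩
    simp; ring_nf; omega
  rw [orderOf_units, orderOf_pow' _ (by omega), hord, hfac,
    Nat.gcd_eq_right (dvd_mul_left _ _), Nat.mul_div_cancel _ (by omega)]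

theorem mulGen_cube (hF : Fintype.card F = q ^ 2) (hq : 3 ≤ q) (hq5 : q ≠ 5) (hq8 : q ≠ 8) {ξ : F}
    (hξ : orderOf ξ = q + 1) : MulGen (ξ ^ 3) := by
  have hcard : Nat.card F = q ^ 2 := by rw [Nat.card_eq_fintype_card, hF]
  intro R h1 hR
  classical
  have hξ0 : ξ ≠ 0 := fun h0 => by
    have : ξ ^ (q + 1) = 1 := hξ ▸ pow_orderOf_eq_one ξ
    rw [h0, zero_pow (by omega)] at this
    exact zero_ne_one this
  -- the subfield generated by the cube
  set S := Subring.closure ({ξ ^ 3} : Set F) with hS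
  haveI : Finite S := inferInstance
  letI : Fintype S := Fintype.ofFinite S
  letI : Field S := Fintype.fieldOfDomain S
  have hpow : ∀ k : ℕ, (ξ ^ 3) ^ k ∈ R := fun k => by
    induction k with
    | zero => simpa using h1
    | succ k ih => rw [pow_succ']; exact hR _ ih
  have hSR : ∀ x ∈ S, x ∈ R := fun x hx => by
    rw [hS, Subring.mem_closure_iff] at hx
    induction hx using AddSubgroup.closure_induction with
    | mem y hy =>
      obtain ⟨k, rfl⟩ : ∃ k : ℕ, (ξ ^ 3) ^ k = y := Submonoid.mem_closure_singleton.1 hy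
      exact hpow k
    | zero => exact R.zero_mem
    | add a b _ _ ha hb => exact R.add_mem ha hb
    | neg a _ ha => exact R.neg_mem ha
  have hd := Module.natCard_eq_pow_finrank (K := S) (V := F)
  rw [hcard] at hd
  set δ : S := ⟨ξ ^ 3, Subring.subset_closure rfl⟩ with hδ
  have ho : orderOf δ = orderOf (ξ ^ 3) := by
    rw [← orderOf_injective S.subtype.toMonoidHom Subtype.coe_injective]
    rfl
  have ho' := orderOf_pow' ξ (n := 3) (by norm_num)
  rw [hξ] at ho'
  have hg : Nat.gcd (q + 1) 3 ∣ q + 1 := Nat.gcd_dvd_left _ _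
  have hg3 : Nat.gcd (q + 1) 3 ≤ 3 := Nat.gcd_le_right _ (by norm_num)
  have hlt : q < Nat.card S := by
    refine card_arith hq hq5 hq8 hd.symm (o := orderOf δ) ?_ ?_ ?_ fun h3 => by rw [ho, ho', h3]; rfl
    · rw [ho, ho']; exact Nat.div_dvd_of_dvd hg
    · rw [Nat.card_eq_fintype_card]
      refine orderOf_dvd_of_pow_eq_one (FiniteField.pow_card_sub_one_eq_one δ ?_)
      exact fun h0 => pow_ne_zero 3 hξ0 (congrArg Subtype.val h0)
    · rw [ho, ho']
      calc q + 1 = (q + 1) / Nat.gcd (q + 1) 3 * Nat.gcd (q + 1) 3 := (Nat.div_mul_cancel hg).symm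
        _ ≤ (q + 1) / Nat.gcd (q + 1) 3 * 3 := Nat.mul_le_mul_left _ hg3
        _ = _ := Nat.mul_comm _ _
  refine eq_top_iff.2 fun x _ => hSR x ?_
  by_contra hx
  have h2 : 2 ≤ Module.finrank S F := by
    by_contra h2
    have hle : Nat.card F ≤ Nat.card S := by
      rw [hcard, hd]
      calc Nat.card S ^ Module.finrank S F ≤ Nat.card S ^ 1 := Nat.pow_le_pow_right Nat.card_pos (by omega)
        _ = _ := pow_one _
    obtain ⟨y, hy⟩ := ((Subtype.coe_injective (p := (· ∈ S))).bijective_of_nat_card_le hle).2 x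
    exact hx (hy ▸ y.2)
  have h3 : Nat.card S ^ 2 ≤ q ^ 2 := hd ▸ Nat.pow_le_pow_right Nat.card_pos h2
  have := Nat.pow_lt_pow_left hlt (n := 2) (by norm_num)
  omega

/-- Two conjugates in dimension three. -/
theorem exists_two_three (hF : Fintype.card F = q ^ 2) (hq : 3 ≤ q) :
    ∃ u g : (Fin 3 → F) ≃ₗ[F] (Fin 3 → F), u ∈ uGroup (hermSpace_std hF 3) ∧ g ∈ uGroup (hermSpace_std hF 3) ∧
      IsNilpotent ((u : (Fin 3 → F) →ₗ[F] (Fin 3 → F)) - 1) ∧
      ((u : (Fin 3 → F) →ₗ[F] (Fin 3 → F)) - 1) ^ 2 ≠ 0 ∧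
      uGroup (hermSpace_std hF 3) ≤ Subgroup.closure {u, g * u * g⁻¹} := by
  obtain ⟨e, f, w0, hfr, hw⟩ := exists_fullFrame hF 3
  have hw1 := hw rfl
  change FullFrame _ (0 + 1) e f w0 at hfr
  set σ := Forms.qPowHom hF with hσdef
  set h := hermSpace_std hF 3 with hh
  have hσ : ∀ x, σ x = x ^ q := Forms.qPowHom_apply hF
  have hcard : Nat.card F = q ^ 2 := by rw [Nat.card_eq_fintype_card, hF]
  obtain ⟨c, hc, k, hk, hgen⟩ : ∃ c : F, c + σ c = -1 ∧ ∃ k ∈ uGroup h, ∀ L : Subgroup ((Fin 3 → F) ≃ₗ[F] (Fin 3 → F)),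
      L ≤ biIsoGroup (Cfsg.hermForm 3 F q) → ue h (e 0) w0 c ∈ L → k * ue h (e 0) w0 c * k⁻¹ ∈ L →
        uGroup h ≤ L := by
    obtain ⟨ξ, hξ⟩ := exists_normOne_gen hF
    have hξ1 : ξ ^ (q + 1) = 1 := hξ ▸ pow_orderOf_eq_one ξ
    have hξm : ∀ j, 0 < j → j < q + 1 → ξ ^ j ≠ 1 := fun j h0 hj => by
      intro he
      have := Nat.le_of_dvd h0 (orderOf_dvd_of_pow_eq_one he)
      omega
    by_cases h5 : q = 5
    · subst h5
      have h25 : ((25 : ℕ) : F) = 0 := by
        rw [show 25 = Fintype.card F from by rw [hF]; norm_num]; exact FiniteField.cast_card_eq_zero F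
      have h5' : (5 : F) = 0 := by
        have : (5 : F) ^ 2 = 0 := by rw [← h25]; norm_num
        exact pow_eq_zero_iff (n := 2) (by norm_num) |>.1 this
      have hch : ringChar F ≠ 2 := fun h2 => by
        have h2' : (2 : F) = 0 := by
          have := ringChar.Nat.cast_ringChar (R := F); rw [h2] at this; exact_mod_cast this
        exact one_ne_zero (α := F) (by linear_combination h5' - 2 * h2')
      have h3 : (3 : F) ≠ 0 := fun h3 => one_ne_zero (α := F) (by linear_combination 2 * h3 - h5')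
      obtain ⟨r, hr⟩ : IsSquare (3 : F) := by
        rw [FiniteField.isSquare_iff hch h3, hF]
        norm_num
        linear_combination 106288 * h5'
      refine exists_two_five hfr hw1 hcard h5' (r := r) (by rw [hr]; ring) ?_
      rw [hσ]
      linear_combination (-(r * (r * r) + 3 * r)) * hr + 2 * r * h5'
    by_cases h8 : q = 8
    · subst h8
      have h64 : ((64 : ℕ) : F) = 0 := by
        rw [show 64 = Fintype.card F from by rw [hF]; norm_num]; exact FiniteField.cast_card_eq_zero F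
      have h2' : (2 : F) = 0 := by
        have : (2 : F) ^ 6 = 0 := by rw [← h64]; norm_num
        exact pow_eq_zero_iff (n := 6) (by norm_num) |>.1 this
      refine exists_two_eight hfr hw1 hcard h2' (ξ := ξ) ?_ (hσ ξ)
      have h3 : ξ ^ 3 - 1 ≠ 0 := sub_ne_zero.2 (hξm 3 (by norm_num) (by norm_num))
      refine (mul_eq_zero.1 (show (ξ ^ 3 - 1) * (ξ ^ 6 + ξ ^ 3 + 1) = 0 from ?_)).resolve_left h3
      linear_combination hξ1
    have hξ0 : ξ ≠ 0 := fun h0 => zero_ne_one (α := F) (by rw [← hξ1, h0, zero_pow (by omega)])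
    have h1ξ : 1 + ξ ≠ 0 := fun h0 => hξm 2 (by norm_num) (by omega) (by linear_combination (ξ - 1) * h0)
    have hσξ : σ ξ = ξ⁻¹ := by
      rw [hσ]; exact eq_inv_of_mul_eq_one_left (by rw [← pow_succ, hξ1])
    have h1ξ' : ξ + 1 ≠ 0 := by rwa [add_comm]
    have hcdef : -1 / (1 + ξ) + σ (-1 / (1 + ξ)) = -1 := by
      rw [map_div₀, map_neg, map_one, map_add, map_one, hσξ]
      field_simp
      ring
    have hratio : σ (-1 / (1 + ξ)) / (-1 / (1 + ξ)) = ξ := by
      rw [map_div₀, map_neg, map_one, map_add, map_one, hσξ]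
      field_simp
      ring
    refine ⟨_, hcdef, exists_two hfr hw1 (norm_surj hF) hcdef (div_ne_zero (neg_ne_zero.2 one_ne_zero) h1ξ) ?_⟩
    rw [hratio]
    exact mulGen_cube hF hq h5 h8 hξ
  refine ⟨ue h (e 0) w0 c, k, ue_mem_uGroup _ _ _, hk, ?_, ?_, ?_⟩
  · exact difU_nilpotent hfr hw1 hc (h := h)
  · exact difU_pow_ne hfr hw1 hc (h := h)
  · refine hgen _ ?_ (Subgroup.subset_closure (by simp)) (Subgroup.subset_closure (by simp))
    rw [Subgroup.closure_le]
    rintro x (rfl | rfl)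
    · exact ue_mem_iso _ _ _
    · exact mul_mem (mul_mem (uGroup_le h hk) (ue_mem_iso _ _ _)) (inv_mem (uGroup_le h hk))

end Cfsg.Agent.Lib.UnitRegGen
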